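import Groth.Agent.Vancyc.H578.MilnorAff
import Groth.Agent.Vancyc.H943.LocalSum
import Groth.Agent.Vancyc.H300.TopForm
import Groth.Agent.Lefpen.H702.AffAlg

/-!
# Counting critical points (COUNT package of S4015)

`pt a` is the point of `Spec k[x_1, …, x_m]` attached to `a ∈ k^m`, `crit g` the set of critical points of `g`,
`mil g a` the Milnor number (prelude) of `g : 𝔸^m → 𝔸^1` at `a`.

* `mil_eq_finrank`, `mil_eq_zero` (not critical), `mil_eq_one` (nondegenerate critical point);
* `sum_mil`: `g` with top form `∑ X_i ^ d`: the sum of the Milnor numbers is `(d - 1) ^ m`;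
* `mil_zero_add_ncard`: if all critical points `≠ 0` are nondegenerate;
* `card_crit_morse`, `fm`, `card_crit_fm`: the polynomial `∑ (X_i ^ d - d X_i)`.
-/

set_option autoImplicit false

universe u

open CategoryTheory AlgebraicGeometry MvPolynomial

namespace Groth.Agent.Vancyc.H578.Count

open Groth.Agent.Vancyc.H578.MilnorAff Groth.Agent.Lefpen.H702.AffAlg

variable {k : Type u} [Field k] {m : ℕ}

/-- The point of affine space with coordinates `a`. -/
noncomputable def pt (a : Fin m → k) : PrimeSpectrum (MvPolynomial (Fin m) k) :=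
  ⟨RingHom.ker (eval a), RingHom.ker_isPrime _⟩

/-- The critical points of `g`. -/
def crit (g : MvPolynomial (Fin m) k) : Set (Fin m → k) := {a | ∀ i, eval a (pderiv i g) = 0}

/-- The Milnor number of `g : 𝔸^m → 𝔸^1` at `a`. -/
noncomputable def mil (g : MvPolynomial (Fin m) k) (a : Fin m → k) : ℕ :=
  VanCyc.milnor (Spec.map (CommRingCat.ofHom (algebraMap k (MvPolynomial (Fin m) k)))) (toLine (k := k) g) (pt a)

/-- The Hessian matrix of `g` at `a`. -/
noncomputable def hess (g : MvPolynomial (Fin m) k) (a : Fin m → k) : Matrix (Fin m) (Fin m) k :=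
  Matrix.of fun i j => eval a (pderiv i (pderiv j g))

/-- The Jacobian ideal of `g` (in the polynomial ring). -/
noncomputable def jac (g : MvPolynomial (Fin m) k) : Ideal (MvPolynomial (Fin m) k) := Ideal.span (Set.range fun i => pderiv i g)

theorem mil_eq_finrank (g : MvPolynomial (Fin m) k) (a : Fin m → k) :
    mil g a = Module.finrank k (Localization.AtPrime (pt a).asIdeal ⧸
        (jac g).map (algebraMap (MvPolynomial (Fin m) k) (Localization.AtPrime (pt a).asIdeal))) :=
  milnor_eq g (pt a) (eval a g) (by change eval a _ = 0; simp)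

/-- Not a critical point. -/
theorem mil_eq_zero (g : MvPolynomial (Fin m) k) (a : Fin m → k) (ha : a ∉ crit g) : mil g a = 0 := by
  rw [mil_eq_finrank]
  simp only [crit, Set.mem_ofPred_eq, not_forall] at ha
  obtain ⟨i, hi⟩ := ha
  have h1 : (jac g).map (algebraMap (MvPolynomial (Fin m) k) (Localization.AtPrime (pt a).asIdeal)) = ⊤ := by
    refine Ideal.eq_top_of_isUnit_mem _ (Ideal.mem_map_of_mem _ (Ideal.subset_span ⟨i, rfl⟩)) ?_
    exact IsLocalization.map_units (Localization.AtPrime (pt a).asIdeal) (⟨pderiv i g, hi⟩ : (pt a).asIdeal.primeCompl)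
  rw [h1]
  have : Subsingleton (Localization.AtPrime (pt a).asIdeal ⧸ (⊤ : Ideal (Localization.AtPrime (pt a).asIdeal))) :=
    Ideal.Quotient.subsingleton_iff.mpr rfl
  exact Module.finrank_zero_of_subsingleton

/-- The residue field at a rational point. -/
theorem finrank_maximalIdeal (a : Fin m → k) :
    Module.finrank k (Localization.AtPrime (pt a).asIdeal ⧸
      (IsLocalRing.maximalIdeal (Localization.AtPrime (pt a).asIdeal))) = 1 := by
  have hmax : (pt a).asIdeal.IsMaximal := RingHom.ker_isMaximal_of_surjective (eval a) (fun c => ⟨C c, by simp⟩)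
  refine finrank_eq_one 1 one_ne_zero fun w => ?_
  obtain ⟨z, rfl⟩ := (IsLocalization.AtPrime.equivQuotMaximalIdeal (pt a).asIdeal
    (Localization.AtPrime (pt a).asIdeal)).surjective w
  obtain ⟨p, rfl⟩ := Ideal.Quotient.mk_surjective z
  refine ⟨eval a p, ?_⟩
  have h1 : Ideal.Quotient.mk (pt a).asIdeal p = Ideal.Quotient.mk (pt a).asIdeal (C (eval a p)) := by
    rw [Ideal.Quotient.eq]
    change eval a _ = 0
    simp
  rw [h1, IsLocalization.AtPrime.equivQuotMaximalIdeal_apply_mk, Algebra.smul_def, mul_one]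
  rfl

/-- At a nondegenerate critical point the Jacobian ideal is the maximal ideal. -/
theorem jac_map_eq (g : MvPolynomial (Fin m) k) (a : Fin m → k) (ha : a ∈ crit g) (hdet : (hess g a).det ≠ 0) :
    (jac g).map (algebraMap (MvPolynomial (Fin m) k) (Localization.AtPrime (pt a).asIdeal)) =
      IsLocalRing.maximalIdeal (Localization.AtPrime (pt a).asIdeal) := by
  classical
  let O := Localization.AtPrime (pt a).asIdeal
  let ι := algebraMap (MvPolynomial (Fin m) k) O
  have hP : (pt a).asIdeal = ptIdeal a := (ptIdeal_eq_ker a).symm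
  rw [← Localization.AtPrime.map_eq_maximalIdeal]
  apply le_antisymm
  · refine Ideal.map_mono ?_
    rw [jac, Ideal.span_le]
    rintro _ ⟨i, rfl⟩
    exact ha i
  · choose h hh using fun i => exists_hadamard a (pderiv i g)
    let H : Matrix (Fin m) (Fin m) (MvPolynomial (Fin m) k) := Matrix.of fun i l => h i l
    have hHe : ∀ i l, eval a (h i l) = eval a (pderiv l (pderiv i g)) := by
      intro i l
      rw [hh i]
      simp only [map_add, pderiv_C, map_sum, Derivation.leibniz, smul_eq_mul, map_sub, map_mul, eval_X, eval_C,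
        sub_self, zero_mul, zero_add, pderiv_X, sub_zero]
      rw [Finset.sum_eq_single l]
      · simp
      · intro b _ hb
        simp [hb]
      · simp
    have hdetH : eval a H.det = (hess g a).det := by
      rw [RingHom.map_det, ← Matrix.det_transpose]
      congr 1
      ext i l
      simp only [H, hess, Matrix.transpose_apply, RingHom.mapMatrix_apply, Matrix.map_apply, Matrix.of_apply]
      rw [hHe]
    have hunit : IsUnit (ι H.det) :=
      IsLocalization.map_units O (⟨H.det, by
        change ¬ (eval a H.det = 0)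
        rw [hdetH]; exact hdet⟩ : (pt a).asIdeal.primeCompl)
    refine (Ideal.map_mono hP.le).trans ?_
    rw [ptIdeal, Ideal.map_span, Ideal.span_le]
    rintro _ ⟨_, ⟨l, rfl⟩, rfl⟩
    have h1 : ∀ i, pderiv i g = ∑ j, H i j * (X j - C (a j)) := by
      intro i
      have := hh i
      rw [ha i, C_0, zero_add] at this
      exact this
    have h2 : H.det * (X l - C (a l)) = ∑ i, H.adjugate l i * pderiv i g := by
      have h3 : H.adjugate.mulVec (H.mulVec fun j => X j - C (a j)) = H.det • fun j => (X j - C (a j) : MvPolynomial (Fin m) k) := by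
        rw [Matrix.mulVec_mulVec, Matrix.adjugate_mul, Matrix.smul_mulVec, Matrix.one_mulVec]
      have h4 := congrFun h3 l
      rw [Pi.smul_apply, smul_eq_mul] at h4
      rw [← h4, Matrix.mulVec, dotProduct]
      refine Finset.sum_congr rfl fun i _ => ?_
      rw [h1 i]
      rfl
    have h5 : ι H.det * ι (X l - C (a l)) ∈ (jac g).map ι := by
      rw [← map_mul, h2]
      exact Ideal.mem_map_of_mem _ (Ideal.sum_mem _ fun i _ => Ideal.mul_mem_left _ _ (Ideal.subset_span ⟨i, rfl⟩))
    exact (Ideal.unit_mul_mem_iff_mem _ hunit).mp h5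

/-- **Nondegenerate critical points have Milnor number one.** -/
theorem mil_eq_one (g : MvPolynomial (Fin m) k) (a : Fin m → k) (ha : a ∈ crit g) (hdet : (hess g a).det ≠ 0) :
    mil g a = 1 := by
  rw [mil_eq_finrank, jac_map_eq g a ha hdet, finrank_maximalIdeal]

theorem totalDegree_pderiv_lt {p : MvPolynomial (Fin m) k} {d : ℕ} (hd : 2 ≤ d) (hp : p.totalDegree < d) (i : Fin m) :
    (pderiv i p).totalDegree < d - 1 := by
  classical
  rw [totalDegree, Finset.sup_lt_iff (by simp; omega)]
  intro s hs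
  rw [mem_support_iff, coeff_pderiv] at hs
  have h1 : coeff (s + Finsupp.single i 1) p ≠ 0 := fun h => hs (by rw [h]; simp)
  have h2 := le_totalDegree (mem_support_iff.mpr h1)
  rw [Finsupp.sum_add_index' (by simp) (by simp), Finsupp.sum_single_index rfl] at h2
  omega

section sum

variable {d : ℕ} {g : MvPolynomial (Fin m) k}

theorem jac_finrank (hd : 2 ≤ d) (hdk : (d : k) ≠ 0) (hg : (g - ∑ i, X i ^ d).totalDegree < d) :
    Module.Finite k (MvPolynomial (Fin m) k ⧸ jac g) ∧
      Module.finrank k (MvPolynomial (Fin m) k ⧸ jac g) = (d - 1) ^ m := by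
  have h1 : jac g = Ideal.span (Set.range fun i => C ((d : k)⁻¹) * pderiv i g) := by
    apply le_antisymm
    · rw [jac, Ideal.span_le]
      rintro _ ⟨i, rfl⟩
      have : pderiv i g = C (d : k) * (C ((d : k)⁻¹) * pderiv i g) := by
        rw [← mul_assoc, ← C_mul, mul_inv_cancel₀ hdk, C_1, one_mul]
      change pderiv i g ∈ _
      rw [this]
      exact Ideal.mul_mem_left _ _ (Ideal.subset_span ⟨i, rfl⟩)
    · rw [Ideal.span_le]
      rintro _ ⟨i, rfl⟩
      exact Ideal.mul_mem_left _ _ (Ideal.subset_span ⟨i, rfl⟩)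
  rw [h1]
  refine H300.TopForm.finrank_quot_of_top k m (d - 1) _ fun i => ?_
  have h2 : C ((d : k)⁻¹) * pderiv i g - X i ^ (d - 1) = C ((d : k)⁻¹) * pderiv i (g - ∑ i, X i ^ d) := by
    rw [map_sub, mul_sub, map_sum, Finset.sum_eq_single i]
    · rw [pderiv_pow, pderiv_X_self, mul_one, ← mul_assoc, ← map_natCast (C : k →+* MvPolynomial (Fin m) k) d,
        ← C_mul, inv_mul_cancel₀ hdk, C_1, one_mul]
    · intro j _ hj
      rw [pderiv_pow, pderiv_X_of_ne hj, mul_zero]
    · simp
  rw [h2]
  refine (totalDegree_mul _ _).trans_lt ?_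
  rw [totalDegree_C, zero_add]
  exact totalDegree_pderiv_lt hd hg i

theorem zero_set_eq (g : MvPolynomial (Fin m) k) : {a : Fin m → k | ∀ p ∈ jac g, eval a p = 0} = crit g := by
  ext a
  constructor
  · intro h i
    exact h _ (Ideal.subset_span ⟨i, rfl⟩)
  · intro h
    have : jac g ≤ RingHom.ker (eval a) := by
      rw [jac, Ideal.span_le]
      rintro _ ⟨i, rfl⟩
      exact h i
    exact this

theorem finite_crit [IsAlgClosed k] (hd : 2 ≤ d) (hdk : (d : k) ≠ 0) (hg : (g - ∑ i, X i ^ d).totalDegree < d) :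
    (crit g).Finite := by
  have h := (jac_finrank hd hdk hg).1
  obtain ⟨hZ, -⟩ := H943.LocalSum.finrank_eq_sum_local k m (jac g)
  rw [← zero_set_eq]
  exact hZ

/-- **The sum of the Milnor numbers.** -/
theorem sum_mil [IsAlgClosed k] (hd : 2 ≤ d) (hdk : (d : k) ≠ 0) (hg : (g - ∑ i, X i ^ d).totalDegree < d) :
    ∑ a ∈ (finite_crit hd hdk hg).toFinset, mil g a = (d - 1) ^ m := by
  have h := (jac_finrank hd hdk hg)
  have h' := h.1
  obtain ⟨hZ, e⟩ := H943.LocalSum.finrank_eq_sum_local k m (jac g)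
  rw [← h.2, e]
  refine Finset.sum_congr ?_ fun a _ => mil_eq_finrank g a
  ext a
  rw [Set.Finite.mem_toFinset, Set.Finite.mem_toFinset, zero_set_eq]

/-- All critical points other than the origin nondegenerate. -/
theorem mil_zero_add_ncard [IsAlgClosed k] (hd : 2 ≤ d) (hdk : (d : k) ≠ 0)
    (hg : (g - ∑ i, X i ^ d).totalDegree < d)
    (hm : ∀ a ∈ crit g, a ≠ 0 → (hess g a).det ≠ 0) :
    mil g 0 + (crit g \ {0}).ncard = (d - 1) ^ m := by
  classical
  rw [← sum_mil hd hdk hg]
  set s := (finite_crit hd hdk hg).toFinset with hs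
  have hmem : ∀ a, a ∈ s ↔ a ∈ crit g := fun a => (finite_crit hd hdk hg).mem_toFinset
  have h2 : (crit g \ {0}).ncard = (s.erase 0).card := by
    rw [← Set.ncard_coe_finset]
    congr 1
    ext a
    rw [Finset.coe_erase]
    simp [hs]
  have h1 : ∀ a ∈ s.erase 0, mil g a = 1 := by
    intro a ha
    rw [Finset.mem_erase, hmem] at ha
    exact mil_eq_one g a ha.2 (hm a ha.2 ha.1)
  rw [h2]
  by_cases h0 : (0 : Fin m → k) ∈ crit g
  · rw [← Finset.add_sum_erase _ _ ((hmem 0).mpr h0), Finset.sum_congr rfl h1]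
    simp
  · have h3 : s.erase 0 = s := Finset.erase_eq_of_notMem (by rw [hmem]; exact h0)
    rw [h3] at h1 ⊢
    rw [mil_eq_zero g 0 h0, zero_add, Finset.sum_congr rfl h1]
    simp

/-- All critical points nondegenerate. -/
theorem card_crit_morse [IsAlgClosed k] (hd : 2 ≤ d) (hdk : (d : k) ≠ 0)
    (hg : (g - ∑ i, X i ^ d).totalDegree < d)
    (hm : ∀ a ∈ crit g, (hess g a).det ≠ 0) :
    (crit g).ncard = (d - 1) ^ m := by
  rw [Set.ncard_eq_toFinset_card _ (finite_crit hd hdk hg), ← sum_mil hd hdk hg, Finset.sum_congr rfl (fun a ha => ?_), Finset.sum_const, smul_eq_mul, mul_one]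
  rw [Set.Finite.mem_toFinset] at ha
  exact mil_eq_one g a ha (hm a ha)

end sum

section fermat

variable (k m)

/-- The Morse polynomial `∑ (X_i ^ d - d X_i)`. -/
noncomputable def fm (d : ℕ) : MvPolynomial (Fin m) k := ∑ i, (X i ^ d - C (d : k) * X i)

variable {k m}

theorem totalDegree_fm {d : ℕ} (hd : 2 ≤ d) : (fm k m d - ∑ i, X i ^ d).totalDegree < d := by
  have h1 : fm k m d - ∑ i, X i ^ d = ∑ i, (- (C (d : k) * X i)) := by
    rw [fm, ← Finset.sum_sub_distrib]
    exact Finset.sum_congr rfl fun i _ => by ring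
  rw [h1]
  refine (totalDegree_finsetSum _ _).trans_lt ?_
  rw [Finset.sup_lt_iff (by simp; omega)]
  intro i _
  rw [totalDegree_neg]
  refine (totalDegree_mul _ _).trans_lt ?_
  rw [totalDegree_C, totalDegree_X]
  omega

theorem pderiv_fm {d : ℕ} (i : Fin m) : pderiv i (fm k m d) = C (d : k) * X i ^ (d - 1) - C (d : k) := by
  rw [fm, map_sum, Finset.sum_eq_single i]
  · rw [map_sub, pderiv_pow, pderiv_X_self, pderiv_C_mul, pderiv_X_self, mul_one, mul_one,
      map_natCast]
  · intro j _ hj
    rw [map_sub, pderiv_pow, pderiv_C_mul, pderiv_X_of_ne hj]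
    simp
  · simp

theorem det_hess_fm {d : ℕ} (hd : 2 ≤ d) (hdk : (d : k) ≠ 0) (hdk' : ((d - 1 : ℕ) : k) ≠ 0) (a : Fin m → k)
    (ha : a ∈ crit (fm k m d)) : (hess (fm k m d) a).det ≠ 0 := by
  classical
  have h1 : ∀ i, a i ≠ 0 := by
    intro i h0
    have h := ha i
    rw [pderiv_fm] at h
    simp only [map_sub, map_mul, eval_C, map_pow, eval_X, h0] at h
    rw [zero_pow (by omega), mul_zero, zero_sub, neg_eq_zero] at h
    exact hdk h
  have h2 : hess (fm k m d) a = Matrix.diagonal fun i => (d : k) * ((d - 1 : ℕ) * a i ^ (d - 2)) := by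
    ext i j
    rw [hess, Matrix.of_apply, pderiv_fm, map_sub, pderiv_C, sub_zero, pderiv_C_mul, pderiv_pow]
    by_cases hij : i = j
    · subst hij
      rw [pderiv_X_self, Matrix.diagonal_apply_eq]
      simp only [map_mul, eval_C, map_natCast, map_pow, eval_X, map_one, mul_one]
      rw [show d - 1 - 1 = d - 2 by omega]
    · rw [pderiv_X_of_ne (Ne.symm hij), Matrix.diagonal_apply_ne _ hij]
      simp
  rw [h2, Matrix.det_diagonal, Finset.prod_ne_zero_iff]
  intro i _
  exact mul_ne_zero hdk (mul_ne_zero hdk' (pow_ne_zero _ (h1 i)))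

/-- The number of critical points of `∑ (X_i ^ d - d X_i)`. -/
theorem card_crit_fm [IsAlgClosed k] {d : ℕ} (hd : 2 ≤ d) (hdk : (d : k) ≠ 0) (hdk' : ((d - 1 : ℕ) : k) ≠ 0) :
    (crit (fm k m d)).ncard = (d - 1) ^ m :=
  card_crit_morse hd hdk (totalDegree_fm hd) (det_hess_fm hd hdk hdk')

end fermat

end Groth.Agent.Vancyc.H578.Count
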