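import Groth.Agent.Vancyc.H517.Family
import Groth.Agent.Vancyc.H578.Count

/-!
# The singular points of the compactified family `g = t`

`g : MvPolynomial (Fin m) k`, `F = g - t` over `k[t]`:

* `rho`: the isomorphism `k[t][x] ⧸ (g - t) ≃ k[x]`, inverse of `H517.Family.inrHom`;
* `exists_crit_of_pderiv_mem`: a prime of `k[t][x] ⧸ (g - t)` containing all partial derivatives of `F` comes from a
  critical point of `g`;
* `exists_crit_of_notMem_nsOpen`: the same in the projective closure, when the top form is nonsingular.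
-/

set_option autoImplicit false

universe u

open CategoryTheory CategoryTheory.Limits AlgebraicGeometry MvPolynomial

namespace Groth.Agent.Vancyc.H578.FamPts

open Groth.Agent.Lefpen.H713.HypProj Groth.Agent.Vancyc.H517.HypJac Groth.Agent.Vancyc.H517.Homog
open Groth.Agent.Vancyc.H517.Bdry Groth.Agent.Vancyc.H517.Family
open Groth.Agent.Vancyc.H578.Count Groth.Agent.Vancyc.H578.MilnorAff

variable {k : Type u} [Field k] {m : ℕ}

/-- the ring map `k[t] ⟶ k[x]`, `t ↦ g` -/
noncomputable abbrev ev (g : MvPolynomial (Fin m) k) : Polynomial k →+* MvPolynomial (Fin m) k :=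
  (Polynomial.aeval g : Polynomial k →ₐ[k] MvPolynomial (Fin m) k).toRingHom

theorem ev_C (g : MvPolynomial (Fin m) k) (c : k) : ev g (Polynomial.C c) = C c :=
  Polynomial.aeval_C g c

theorem ev_X (g : MvPolynomial (Fin m) k) : ev g Polynomial.X = g := Polynomial.aeval_X g

theorem comp_id_ev (g : MvPolynomial (Fin m) k) :
    (ev g).comp (RingHom.id (Polynomial k)) = (RingHom.id (MvPolynomial (Fin m) k)).comp (ev g) := by
  rw [RingHom.comp_id, RingHom.id_comp]

/-- the isomorphism `k[t][x] ⧸ (g - t) ⟶ k[x]` -/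
noncomputable def rho (g : MvPolynomial (Fin m) k) :
    MvPolynomial (Fin m) (Polynomial k) ⧸ Ideal.span {fp (RingHom.id (Polynomial k)) g} →+* MvPolynomial (Fin m) k :=
  descHom (φ := RingHom.id (Polynomial k)) (ψ := ev g) (a := ev g) (b := RingHom.id _) (ev_C g) (ev_X g) (comp_id_ev g)

theorem rho_inrHom (g : MvPolynomial (Fin m) k) :
    (rho g).comp (inrHom (RingHom.id (Polynomial k)) g) = RingHom.id _ :=
  descHom_inr (ev_C g) (ev_X g) (comp_id_ev g)

theorem rho_algebraMap (g : MvPolynomial (Fin m) k) :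
    (rho g).comp (algebraMap (Polynomial k) _) = ev g :=
  descHom_inl (ev_C g) (ev_X g) (comp_id_ev g)

theorem inrHom_rho (g : MvPolynomial (Fin m) k) :
    (inrHom (RingHom.id (Polynomial k)) g).comp (rho g) = RingHom.id _ := by
  apply hom_ext_fam (k := k) (φ := RingHom.id (Polynomial k)) (g := g)
  · rw [RingHom.comp_assoc, rho_algebraMap, RingHom.id_comp]
    have h := comp_eq (φ := RingHom.id (Polynomial k)) (g := g) (ψ := ev g) (ev_C g) (ev_X g)
    rw [RingHom.comp_id] at h
    exact h.symm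
  · rw [RingHom.comp_assoc, rho_inrHom, RingHom.comp_id, RingHom.id_comp]

theorem bijective_rho (g : MvPolynomial (Fin m) k) : Function.Bijective (rho g) :=
  Function.bijective_iff_has_inverse.mpr ⟨inrHom (RingHom.id (Polynomial k)) g,
    fun x => congrArg (fun t => t x) (inrHom_rho g), fun x => congrArg (fun t => t x) (rho_inrHom g)⟩

instance isIso_Spec_rho (g : MvPolynomial (Fin m) k) : IsIso (Spec.map (CommRingCat.ofHom (rho g))) := by
  have : IsIso (CommRingCat.ofHom (rho g)) := (ConcreteCategory.isIso_iff_bijective _).mpr (bijective_rho g)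
  infer_instance

theorem pderiv_fp (g : MvPolynomial (Fin m) k) (j : Fin m) :
    pderiv j (fp (RingHom.id (Polynomial k)) g) =
      MvPolynomial.map ((RingHom.id (Polynomial k)).comp Polynomial.C) (pderiv j g) := by
  rw [fp, map_sub, pderiv_C, sub_zero, pderiv_map]

theorem inrHom_pderiv (g : MvPolynomial (Fin m) k) (j : Fin m) :
    inrHom (RingHom.id (Polynomial k)) g (pderiv j g) =
      Ideal.Quotient.mk _ (pderiv j (fp (RingHom.id (Polynomial k)) g)) := by
  rw [pderiv_fp]
  rfl

/-- A prime ideal of `k[x]` containing the partial derivatives is the ideal of a critical point. -/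
theorem exists_crit_of_jac_le [IsAlgClosed k] {g : MvPolynomial (Fin m) k} {d : ℕ} (hd : 2 ≤ d) (hdk : (d : k) ≠ 0)
    (hg : (g - ∑ i, X i ^ d).totalDegree < d) (P : PrimeSpectrum (MvPolynomial (Fin m) k))
    (hP : jac g ≤ P.asIdeal) : ∃ a ∈ crit g, P = pt a := by
  have hfin := (jac_finrank hd hdk hg).1
  have h1 : Module.Finite k (MvPolynomial (Fin m) k ⧸ P.asIdeal) :=
    Module.Finite.of_surjective (Ideal.Quotient.factorₐ k hP).toLinearMap (Ideal.Quotient.factor_surjective hP)
  have h2 : Algebra.IsIntegral k (MvPolynomial (Fin m) k ⧸ P.asIdeal) := inferInstance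
  have h3 : IsField (MvPolynomial (Fin m) k ⧸ P.asIdeal) :=
    (Algebra.IsIntegral.isField_iff_isField (R := k) (FaithfulSMul.algebraMap_injective _ _)).mp
      (Field.toIsField k)
  have h4 : P.asIdeal.IsMaximal := Ideal.Quotient.maximal_of_isField _ h3
  obtain ⟨a, ha⟩ := MvPolynomial.isMaximal_iff_eq_vanishingIdeal_singleton.mp h4
  have h5 : P = pt a := by
    apply PrimeSpectrum.ext
    rw [ha]
    ext p
    rw [MvPolynomial.mem_vanishingIdeal_singleton_iff]
    change _ ↔ eval a p = 0
    rw [aeval_eq_eval]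
  refine ⟨a, fun i => ?_, h5⟩
  have h6 : pderiv i g ∈ P.asIdeal := hP (Ideal.subset_span ⟨i, rfl⟩)
  rw [h5] at h6
  exact h6

/-- A prime of `k[t][x] ⧸ (g - t)` containing all the partial derivatives comes from a critical point. -/
theorem exists_crit_of_pderiv_mem [IsAlgClosed k] {g : MvPolynomial (Fin m) k} {d : ℕ} (hd : 2 ≤ d)
    (hdk : (d : k) ≠ 0) (hg : (g - ∑ i, X i ^ d).totalDegree < d)
    (y : Spec (CommRingCat.of (MvPolynomial (Fin m) (Polynomial k) ⧸ Ideal.span {fp (RingHom.id (Polynomial k)) g})))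
    (hy : ∀ j, Ideal.Quotient.mk (Ideal.span {fp (RingHom.id (Polynomial k)) g})
      (pderiv j (fp (RingHom.id (Polynomial k)) g)) ∈ y.asIdeal) :
    ∃ a ∈ crit g, y = Spec.map (CommRingCat.ofHom (rho g)) (pt a) := by
  obtain ⟨a, ha, hP⟩ := exists_crit_of_jac_le hd hdk hg
    (PrimeSpectrum.comap (inrHom (RingHom.id (Polynomial k)) g) y) (by
      rw [jac, Ideal.span_le]
      rintro _ ⟨j, rfl⟩
      change inrHom (RingHom.id (Polynomial k)) g (pderiv j g) ∈ y.asIdeal
      rw [inrHom_pderiv]
      exact hy j)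
  refine ⟨a, ha, ?_⟩
  rw [← hP]
  change y = PrimeSpectrum.comap (rho g) (PrimeSpectrum.comap (inrHom (RingHom.id (Polynomial k)) g) y)
  rw [← PrimeSpectrum.comap_comp_apply, inrHom_rho, PrimeSpectrum.comap_id]

variable {n : ℕ}

/-- **mem_nsOpen**: outside the critical points of `g` the compactified family is smooth. -/
theorem exists_crit_of_notMem_nsOpen [IsAlgClosed k] {g : MvPolynomial (Fin (n + 1)) k} {d : ℕ} (hd : 2 ≤ d)
    (hdk : (d : k) ≠ 0) (hg : (g - ∑ i, X i ^ d).totalDegree < d)
    (hp : (fp (RingHom.id (Polynomial k)) g).totalDegree ≤ d)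
    (h : NonsingForm (homogeneousComponent d (fp (RingHom.id (Polynomial k)) g)))
    (x : Xbar d (fp (RingHom.id (Polynomial k)) g))
    (hx : x ∉ nsOpen (hform d (fp (RingHom.id (Polynomial k)) g))) :
    ∃ a ∈ crit g, x = (Spec.map (CommRingCat.ofHom (rho g)) ≫ aff hp) (pt a) := by
  obtain ⟨y, hy1, hy2⟩ := exists_of_notMem_nsOpen hp h x hx
  obtain ⟨a, ha, hya⟩ := exists_crit_of_pderiv_mem hd hdk hg y hy2
  refine ⟨a, ha, ?_⟩
  rw [Scheme.Hom.comp_apply, ← hy1, hya]

section V

variable {g : MvPolynomial (Fin m) k} {d : ℕ} (hp : (fp (RingHom.id (Polynomial k)) g).totalDegree ≤ d)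

/-- the affine part of the compactified family -/
noncomputable def vv : Spec (CommRingCat.of (MvPolynomial (Fin m) k)) ⟶ Xbar d (fp (RingHom.id (Polynomial k)) g) :=
  Spec.map (CommRingCat.ofHom (rho g)) ≫ aff hp

instance isOpenImmersion_vv : IsOpenImmersion (vv hp) := by
  rw [vv]; infer_instance

theorem vv_toSpec : vv hp ≫ toSpec (hform d (fp (RingHom.id (Polynomial k)) g)) = toLine (k := k) g := by
  rw [vv, Category.assoc, aff_toSpec, ← Spec.map_comp, ← CommRingCat.ofHom_comp, rho_algebraMap]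

theorem range_vv : Set.range (vv hp) = Set.range (aff hp) := by
  apply le_antisymm
  · rintro _ ⟨x, rfl⟩
    rw [vv, Scheme.Hom.comp_apply]
    exact ⟨_, rfl⟩
  · rintro _ ⟨x, rfl⟩
    obtain ⟨y, rfl⟩ := (Spec.map (CommRingCat.ofHom (rho g))).surjective x
    exact ⟨y, by rw [vv, Scheme.Hom.comp_apply]⟩

end V

theorem range_bdry_vv {g : MvPolynomial (Fin (n + 1)) k} {d : ℕ}
    (hp : (fp (RingHom.id (Polynomial k)) g).totalDegree ≤ d) :
    Set.range (bdry (hform d (fp (RingHom.id (Polynomial k)) g))) = (Set.range (vv hp))ᶜ := by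
  rw [range_vv, range_bdry_hform hp]

end Groth.Agent.Vancyc.H578.FamPts
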