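import Mathlib.Algebra.MvPolynomial.PDeriv
import Mathlib.Algebra.MvPolynomial.Derivation
import Mathlib.Algebra.Polynomial.Derivation
import Mathlib.RingTheory.Localization.AtPrime.Basic
import Mathlib.RingTheory.Etale.Kaehler
import Mathlib.RingTheory.Etale.Basic
import Mathlib.LinearAlgebra.Dimension.Finrank

/-!
# Jacobian ideals of a function in a localization of a polynomial ring (algebra)

* `derivation_mem_span`: chain rule for a ring hom from a localization of `k[T]`.
* `span_derivation_eq`: for `O` a localization of `k[x_σ]`, the ideal generated by all `D g`, `D` a `k`-derivation of `O`,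
  is generated by the partial derivatives of `g`.
-/

set_option autoImplicit false

universe u

open MvPolynomial

namespace Groth.Agent.Vancyc.H578.JacAlg

section chain

variable {k : Type*} [Field k] {O L : Type*} [CommRing O] [Algebra k O] [CommRing L] [Algebra (Polynomial k) L]

/-- Chain rule: `ψ : L → O` a ring hom over `k`, `L` a localization of `k[T]`; every derivation `D` of `O` satisfies
`D (ψ a) ∈ (D (ψ T))`. -/
theorem derivation_mem_span (𝔮 : Ideal (Polynomial k)) [𝔮.IsPrime] [IsLocalization.AtPrime L 𝔮] (ψ : L →+* O)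
    (hψ : ∀ c : k, ψ (algebraMap (Polynomial k) L (Polynomial.C c)) = algebraMap k O c)
    (D : Derivation k O O) (a : L) :
    D (ψ a) ∈ Ideal.span {D (ψ (algebraMap (Polynomial k) L Polynomial.X))} := by
  set t : O := ψ (algebraMap (Polynomial k) L Polynomial.X) with ht
  have h1 : ψ.comp (algebraMap (Polynomial k) L) = (Polynomial.aeval t : Polynomial k →ₐ[k] O).toRingHom := by
    apply Polynomial.ringHom_ext
    · intro c
      simpa using hψ c
    · simp [ht]
  have h2 : ∀ p : Polynomial k, D (ψ (algebraMap (Polynomial k) L p)) ∈ Ideal.span {D t} := by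
    intro p
    have h3 : ψ (algebraMap (Polynomial k) L p) = Polynomial.aeval t p := congr($h1 p)
    rw [h3, Derivation.map_aeval, smul_eq_mul]
    exact Ideal.mul_mem_left _ _ (Ideal.mem_span_singleton_self _)
  obtain ⟨⟨p, v⟩, hv⟩ := IsLocalization.surj 𝔮.primeCompl a
  have hu : IsUnit (ψ (algebraMap (Polynomial k) L v)) := (IsLocalization.map_units L v).map ψ
  have h4 : ψ a * ψ (algebraMap (Polynomial k) L v) = ψ (algebraMap (Polynomial k) L p) := by
    rw [← map_mul]; exact congrArg ψ hv
  have h5 := congrArg D h4
  rw [Derivation.leibniz, smul_eq_mul, smul_eq_mul] at h5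
  have h6 : D (ψ a) * ψ (algebraMap (Polynomial k) L v) ∈ Ideal.span {D t} := by
    have h7 : D (ψ a) * ψ (algebraMap (Polynomial k) L v) =
        D (ψ (algebraMap (Polynomial k) L p)) - ψ a * D (ψ (algebraMap (Polynomial k) L v)) := by
      rw [← h5]; ring
    rw [h7]
    exact sub_mem (h2 p) (Ideal.mul_mem_left _ _ (h2 v))
  exact (Ideal.mul_unit_mem_iff_mem _ hu).mp h6

/-- The Jacobian ideal is generated by the derivatives of one function. -/
theorem span_eq (𝔮 : Ideal (Polynomial k)) [𝔮.IsPrime] [IsLocalization.AtPrime L 𝔮] [IsLocalRing L] (ψ : L →+* O)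
    (hψ : ∀ c : k, ψ (algebraMap (Polynomial k) L (Polynomial.C c)) = algebraMap k O c)
    (c : k) (hc : Polynomial.X - Polynomial.C c ∈ 𝔮) :
    Ideal.span {b | ∃ (D : Derivation k O O) (a : L), a ∈ IsLocalRing.maximalIdeal L ∧ b = D (ψ a)} =
      Ideal.span (Set.range fun D : Derivation k O O => D (ψ (algebraMap (Polynomial k) L Polynomial.X))) := by
  apply le_antisymm
  · rw [Ideal.span_le]
    rintro b ⟨D, a, _, rfl⟩
    refine (Ideal.span_le.mpr ?_) (derivation_mem_span 𝔮 ψ hψ D a)
    rintro _ rfl
    exact Ideal.subset_span ⟨D, rfl⟩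
  · rw [Ideal.span_le]
    rintro _ ⟨D, rfl⟩
    refine Ideal.subset_span ⟨D, algebraMap (Polynomial k) L (Polynomial.X - Polynomial.C c), ?_, ?_⟩
    · exact (IsLocalization.AtPrime.to_map_mem_maximal_iff L 𝔮 _).mpr hc
    · change D (ψ (algebraMap (Polynomial k) L Polynomial.X)) = _
      rw [map_sub, map_sub, map_sub, hψ, Derivation.map_algebraMap, sub_zero]

end chain

section poly

variable {k : Type*} [Field k] {σ : Type*} [Fintype σ] {O : Type*} [CommRing O] [Algebra k O]
  [Algebra (MvPolynomial σ k) O] [IsScalarTower k (MvPolynomial σ k) O]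

omit [Fintype σ] in
/-- a derivation of `k[x]` extends to a localization. -/
theorem exists_extension (M : Submonoid (MvPolynomial σ k)) [IsLocalization M O]
    (d : Derivation k (MvPolynomial σ k) (MvPolynomial σ k)) :
    ∃ D : Derivation k O O, ∀ p, D (algebraMap (MvPolynomial σ k) O p) = algebraMap (MvPolynomial σ k) O (d p) := by
  have : Algebra.FormallyEtale (MvPolynomial σ k) O := Algebra.FormallyEtale.of_isLocalization M
  have hbc := KaehlerDifferential.isBaseChange_of_formallyEtale k (MvPolynomial σ k) O
  let d' : Derivation k (MvPolynomial σ k) O := (Algebra.linearMap (MvPolynomial σ k) O).compDer d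
  let g : Ω[O⁄k] →ₗ[O] O := hbc.lift d'.liftKaehlerDifferential
  refine ⟨g.compDer (KaehlerDifferential.D k O), fun a => ?_⟩
  have h2 := hbc.lift_eq d'.liftKaehlerDifferential (KaehlerDifferential.D k _ a)
  rw [KaehlerDifferential.map_D, Derivation.liftKaehlerDifferential_comp_D] at h2
  exact h2

theorem derivation_aeval (D : Derivation k O O) (x : σ → O) (f : MvPolynomial σ k) :
    D (aeval x f) = ∑ l, aeval x (pderiv l f) * D (x l) := by
  classical
  induction f using MvPolynomial.induction_on with
  | C a => simp
  | add p q hp hq =>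
    simp only [map_add, hp, hq, add_mul, Finset.sum_add_distrib]
  | mul_X p n hp =>
    rw [map_mul, aeval_X, Derivation.leibniz, hp, smul_eq_mul, smul_eq_mul]
    simp only [Derivation.leibniz, smul_eq_mul, map_add, map_mul, aeval_X, pderiv_X, add_mul,
      Finset.sum_add_distrib, Finset.mul_sum]
    congr 1
    · rw [Finset.sum_eq_single n]
      · simp
      · intro b _ hb
        simp [Pi.single_apply, hb.symm]
      · simp
    · exact Finset.sum_congr rfl fun _ _ => by ring

theorem derivation_apply (D : Derivation k O O) (p : MvPolynomial σ k) :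
    D (algebraMap (MvPolynomial σ k) O p) =
      ∑ i, algebraMap (MvPolynomial σ k) O (pderiv i p) * D (algebraMap (MvPolynomial σ k) O (X i)) := by
  have h : ∀ q : MvPolynomial σ k, algebraMap (MvPolynomial σ k) O q =
      aeval (fun i => algebraMap (MvPolynomial σ k) O (X i)) q := by
    intro q
    have h1 : (IsScalarTower.toAlgHom k (MvPolynomial σ k) O) =
        aeval (fun i => algebraMap (MvPolynomial σ k) O (X i)) := by
      ext i; simp
    exact congr($h1 q)
  rw [h, derivation_aeval]
  exact Finset.sum_congr rfl fun i _ => by rw [← h]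

theorem span_derivation_eq (M : Submonoid (MvPolynomial σ k)) [IsLocalization M O] (g : MvPolynomial σ k) :
    Ideal.span (Set.range fun D : Derivation k O O => D (algebraMap (MvPolynomial σ k) O g)) =
      (Ideal.span (Set.range fun i => pderiv i g)).map (algebraMap (MvPolynomial σ k) O) := by
  classical
  apply le_antisymm
  · rw [Ideal.span_le]
    rintro _ ⟨D, rfl⟩
    change D (algebraMap (MvPolynomial σ k) O g) ∈ _
    rw [derivation_apply]
    refine Ideal.sum_mem _ fun i _ => Ideal.mul_mem_right _ _ (Ideal.mem_map_of_mem _ (Ideal.subset_span ⟨i, rfl⟩))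
  · rw [Ideal.map_span, Ideal.span_le]
    rintro _ ⟨_, ⟨i, rfl⟩, rfl⟩
    obtain ⟨D, hD⟩ := exists_extension (O := O) M (pderiv i)
    exact Ideal.subset_span ⟨D, hD g⟩

end poly

end Groth.Agent.Vancyc.H578.JacAlg
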