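import Groth.Prelude.Def_Milnor
import Groth.Agent.Vancyc.H578.JacAlg

/-!
# The Milnor number of a function on an affine scheme / on affine space

* `jacIdeal_eq`: for `g : A`, `A` a `k`-algebra, the Jacobian ideal (of the prelude) of `Spec A ⟶ Spec k[T]`, `T ↦ g`,
  at a point `x` with `g - c ∈ 𝔭_x` is generated by the `D g`, `D` the `k`-derivations of the local ring.
* `milnor_eq`: for `A = k[x_1, …, x_m]`: `VanCyc.milnor` is `dim_k k[x]_𝔭 / (∂_i g)`.
-/

set_option autoImplicit false

universe u

open CategoryTheory AlgebraicGeometry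

namespace Groth.Agent.Vancyc.H578.MilnorAff

/-- The canonical map from a ring to a local ring of its spectrum. -/
noncomputable abbrev toSt (A : Type u) [CommRing A] (x : PrimeSpectrum A) :
    A →+* (Spec (CommRingCat.of A)).presheaf.stalk x :=
  ((Spec (CommRingCat.of A)).presheaf.germ ⊤ x trivial).hom.comp (Scheme.ΓSpecIso (CommRingCat.of A)).inv.hom

theorem algebraMap_eq (A : Type u) [CommRing A] (x : PrimeSpectrum A) :
    @algebraMap A ((Spec (CommRingCat.of A)).presheaf.stalk x) _ _ (StructureSheaf.stalkAlgebra A x) = toSt A x := by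
  rfl

theorem isLocalization (A : Type u) [CommRing A] (x : PrimeSpectrum A) :
    letI := (toSt A x).toAlgebra
    IsLocalization.AtPrime ((Spec (CommRingCat.of A)).presheaf.stalk x) x.asIdeal :=
  StructureSheaf.IsLocalization.to_stalk A x

/-- Functoriality of the map to the local ring. -/
theorem stalkMap_toSt {A B : Type u} [CommRing A] [CommRing B] (φ : A →+* B) (x : PrimeSpectrum B) (a : A) :
    ((Spec.map (CommRingCat.ofHom φ)).stalkMap x).hom (toSt A (PrimeSpectrum.comap φ x) a) = toSt B x (φ a) := by
  have h := Scheme.Hom.germ_stalkMap_apply (Spec.map (CommRingCat.ofHom φ)) ⊤ x trivial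
    ((Scheme.ΓSpecIso (CommRingCat.of A)).inv.hom a)
  refine h.trans ?_
  have h2 := ConcreteCategory.congr_hom (Scheme.ΓSpecIso_inv_naturality (CommRingCat.ofHom φ)) a
  exact congrArg ((Spec (CommRingCat.of B)).presheaf.germ ⊤ x trivial).hom h2.symm

theorem stalkAlgebra_algebraMap (k A : Type u) [Field k] [CommRing A] [Algebra k A] (x : PrimeSpectrum A) (c : k) :
    @algebraMap k _ _ _ (VanCyc.stalkAlgebra (Spec.map (CommRingCat.ofHom (algebraMap k A))) x) c =
      toSt A x (algebraMap k A c) := by
  have h2 := ConcreteCategory.congr_hom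
    (Scheme.ΓSpecIso_inv_naturality (CommRingCat.ofHom (algebraMap k A))) c
  exact congrArg ((Spec (CommRingCat.of A)).presheaf.germ ⊤ x trivial).hom h2.symm

section

variable {k A : Type u} [Field k] [CommRing A] [Algebra k A]

/-- The morphism `Spec A ⟶ Spec k[T]` given by a function. -/
noncomputable abbrev toLine (g : A) : Spec (CommRingCat.of A) ⟶ Spec (CommRingCat.of (Polynomial k)) :=
  Spec.map (CommRingCat.ofHom (Polynomial.aeval g : Polynomial k →ₐ[k] A).toRingHom)

/-- The Jacobian ideal of a function on an affine scheme. -/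
theorem jacIdeal_eq (g : A) (x : PrimeSpectrum A) (c : k) (hc : g - algebraMap k A c ∈ x.asIdeal) :
    letI := VanCyc.stalkAlgebra (Spec.map (CommRingCat.ofHom (algebraMap k A))) x
    VanCyc.jacIdeal (Spec.map (CommRingCat.ofHom (algebraMap k A))) (toLine (k := k) g) x =
      Ideal.span (Set.range fun D : Derivation k ((Spec (CommRingCat.of A)).presheaf.stalk x)
        ((Spec (CommRingCat.of A)).presheaf.stalk x) => D (toSt A x g)) := by
  letI := VanCyc.stalkAlgebra (Spec.map (CommRingCat.ofHom (algebraMap k A))) x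
  let φ : Polynomial k →+* A := (Polynomial.aeval g : Polynomial k →ₐ[k] A).toRingHom
  let y : PrimeSpectrum (Polynomial k) := PrimeSpectrum.comap φ x
  letI : Algebra (Polynomial k) ((Spec (CommRingCat.of (Polynomial k))).presheaf.stalk y) := (toSt _ y).toAlgebra
  haveI : IsLocalization.AtPrime ((Spec (CommRingCat.of (Polynomial k))).presheaf.stalk y) y.asIdeal :=
    isLocalization _ y
  have h := JacAlg.span_eq (k := k) (O := (Spec (CommRingCat.of A)).presheaf.stalk x)
    (L := (Spec (CommRingCat.of (Polynomial k))).presheaf.stalk y) y.asIdeal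
    ((Spec.map (CommRingCat.ofHom φ)).stalkMap x).hom ?_ c ?_
  · refine Eq.trans ?_ (h.trans ?_)
    · rfl
    · congr 2
      funext D
      congr 1
      refine (stalkMap_toSt φ x Polynomial.X).trans ?_
      simp [φ]
  · intro c
    refine (stalkMap_toSt φ x (Polynomial.C c)).trans ?_
    rw [stalkAlgebra_algebraMap]
    simp [φ]
  · change φ _ ∈ x.asIdeal
    simpa [φ] using hc

end

section poly

variable {k : Type u} [Field k] {m : ℕ}

/-- **Milnor number on affine space.** -/
theorem milnor_eq (g : MvPolynomial (Fin m) k) (x : PrimeSpectrum (MvPolynomial (Fin m) k)) (c : k)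
    (hc : g - MvPolynomial.C c ∈ x.asIdeal) :
    VanCyc.milnor (Spec.map (CommRingCat.ofHom (algebraMap k (MvPolynomial (Fin m) k)))) (toLine (k := k) g) x =
      Module.finrank k (Localization.AtPrime x.asIdeal ⧸
        (Ideal.span (Set.range fun i => MvPolynomial.pderiv i g)).map
          (algebraMap (MvPolynomial (Fin m) k) (Localization.AtPrime x.asIdeal))) := by
  letI := VanCyc.stalkAlgebra (Spec.map (CommRingCat.ofHom (algebraMap k (MvPolynomial (Fin m) k)))) x
  letI : Algebra (MvPolynomial (Fin m) k) ((Spec (CommRingCat.of (MvPolynomial (Fin m) k))).presheaf.stalk x) :=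
    (toSt _ x).toAlgebra
  haveI : IsLocalization.AtPrime ((Spec (CommRingCat.of (MvPolynomial (Fin m) k))).presheaf.stalk x) x.asIdeal :=
    isLocalization _ x
  haveI : IsScalarTower k (MvPolynomial (Fin m) k)
      ((Spec (CommRingCat.of (MvPolynomial (Fin m) k))).presheaf.stalk x) :=
    IsScalarTower.of_algebraMap_eq fun c => stalkAlgebra_algebraMap k _ x c
  have h1 := jacIdeal_eq (k := k) g x c hc
  have h2 := JacAlg.span_derivation_eq (k := k) (O := (Spec (CommRingCat.of (MvPolynomial (Fin m) k))).presheaf.stalk x)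
    x.asIdeal.primeCompl g
  let e := IsLocalization.algEquiv x.asIdeal.primeCompl
    ((Spec (CommRingCat.of (MvPolynomial (Fin m) k))).presheaf.stalk x) (Localization.AtPrime x.asIdeal)
  let e' : ((Spec (CommRingCat.of (MvPolynomial (Fin m) k))).presheaf.stalk x) ≃ₐ[k] (Localization.AtPrime x.asIdeal) :=
    e.restrictScalars k
  have h3 : (Ideal.span (Set.range fun i => MvPolynomial.pderiv i g)).map
          (algebraMap (MvPolynomial (Fin m) k) (Localization.AtPrime x.asIdeal)) =
      (VanCyc.jacIdeal (Spec.map (CommRingCat.ofHom (algebraMap k (MvPolynomial (Fin m) k)))) (toLine (k := k) g) x).map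
        (e' : _ →+* Localization.AtPrime x.asIdeal) := by
    rw [h1.trans h2, Ideal.map_map]
    congr 1
    ext p <;> simp [e']
  exact (Ideal.quotientEquivAlg _ _ e' h3).toLinearEquiv.finrank_eq

end poly

end Groth.Agent.Vancyc.H578.MilnorAff
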