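import Groth.Agent.Vancyc.H578.Trans
import Groth.Agent.Lefpen.H705.Completion
import Groth.Agent.Lefpen.H702.AffAlg
import Groth.Agent.Ega4B.DimFT
import Mathlib.RingTheory.RegularLocalRing.Polynomial

/-!
# Ordinary quadratic points of hypersurfaces: nondegenerate critical points

`isOrdQuadPt`: `κ` algebraically closed, `O` a local ring which is a quotient of the local ring of `𝔸^(n+1)` at `a` by a
polynomial `p` with `p(a) = 0`, `grad p (a) = 0` and invertible Hessian at `a`: then `VanCyc.IsOrdQuadPt`.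
-/

set_option autoImplicit false

universe u

open MvPolynomial IsLocalRing
open scoped TensorProduct

namespace Groth.Agent.Vancyc.H578.OrdQuad

open Groth.Agent.Lefpen.H702.AffAlg Groth.Agent.Vancyc.H578.Trans

section field

variable {K : Type u} [Field K] {n : ℕ}

/-- Ordinary quadratic singularities from the critical points of polynomials. -/
theorem isOrdQuadSing {A B : Type u} [CommRing A] [IsRegularLocalRing A] [CommRing B] [IsLocalRing B] [Algebra K B]
    (φ : K →+* A) (hres : ∀ z : A, ∃ c : K, z - φ c ∈ maximalIdeal A) (t : Fin (n + 1) → A)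
    (ht : Ideal.span (Set.range t) = maximalIdeal A) (hn : ringKrullDim A = (n + 1 : ℕ))
    (π : A →+* B) (hπ : Function.Surjective π) (hπK : ∀ c, π (φ c) = algebraMap K B c)
    (p : MvPolynomial (Fin (n + 1)) K) (hk : RingHom.ker π = Ideal.span {MvPolynomial.eval₂Hom φ t p})
    (hp : VanCyc.OrdQuadSeries (p : MvPowerSeries (Fin (n + 1)) K)) :
    VanCyc.IsOrdQuadSing K B n := by
  obtain ⟨e, heC, heX, hep⟩ := Groth.Agent.Lefpen.H705.Completion.exists_completion_equiv φ hres (n + 1) t ht hn
  obtain ⟨e', he'⟩ := Groth.Agent.Lefpen.H705.Completion.exists_quotient_completion_equiv π hπ _ hk e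
  have hp' : VanCyc.OrdQuadSeries (e (algebraMap A _ (MvPolynomial.eval₂Hom φ t p))) := by rw [hep]; exact hp
  refine ⟨_, hp', ⟨AlgEquiv.ofRingEquiv (f := e') fun c => ?_⟩⟩
  rw [IsScalarTower.algebraMap_apply K B, ← hπK, he', heC]
  rfl

end field

section alg

variable {κ : Type u} [Field κ] [IsAlgClosed κ] {n : ℕ} {O : Type u} [CommRing O] [IsLocalRing O]

theorem eval_zero_map {k K : Type*} [CommRing k] [CommRing K] {N : ℕ} (f : k →+* K) (p : MvPolynomial (Fin N) k) :
    eval 0 (MvPolynomial.map f p) = f (eval 0 p) := by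
  rw [eval_zero, eval_zero, constantCoeff_map]

/-- the maximal ideal of a rational point. -/
theorem isMaximal_pt {k : Type u} [Field k] {m : ℕ} (a : Fin m → k) : (RingHom.ker (eval a)).IsMaximal :=
  RingHom.ker_isMaximal_of_surjective (eval a) (fun c => ⟨C c, by simp⟩)

/-- **Nondegenerate critical points are ordinary quadratic points.** -/
theorem isOrdQuadPt (ψ : κ →+* O) (a : Fin (n + 1) → κ) (p : MvPolynomial (Fin (n + 1)) κ)
    (P : Ideal (MvPolynomial (Fin (n + 1)) κ)) [P.IsPrime] (hP : P = RingHom.ker (eval a))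
    (π : Localization.AtPrime P →+* O) (hπ : Function.Surjective π)
    (hπψ : ∀ c, π (algebraMap κ (Localization.AtPrime P) c) = ψ c)
    (hk : RingHom.ker π = Ideal.span {algebraMap (MvPolynomial (Fin (n + 1)) κ) (Localization.AtPrime P) p})
    (h0 : eval a p = 0) (h1 : ∀ i, eval a (pderiv i p) = 0)
    (h2 : (Matrix.of fun i j => eval a (pderiv i (pderiv j p))).det ≠ 0) :
    VanCyc.IsOrdQuadPt ψ n := by
  let _ : Algebra κ O := ψ.toAlgebra
  change ∀ (M : Ideal (AlgebraicClosure κ ⊗[κ] O)) [M.IsMaximal],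
    VanCyc.IsOrdQuadSing (AlgebraicClosure κ) (Localization.AtPrime M) n
  intro M hM
  have hbij : Function.Bijective (algebraMap κ (AlgebraicClosure κ)) :=
    IsAlgClosed.algebraMap_bijective_of_isIntegral
  let K := AlgebraicClosure κ
  let ι : κ ≃+* K := RingEquiv.ofBijective (algebraMap κ K) hbij
  -- `O ≃ K ⊗ O`
  let E : O ≃+* K ⊗[κ] O :=
    (Algebra.TensorProduct.lid κ O).symm.toRingEquiv.trans
      (Algebra.TensorProduct.congr (AlgEquiv.ofBijective (Algebra.ofId κ K) hbij) (AlgEquiv.refl (R := κ) (A₁ := O))).toRingEquiv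
  have hE : ∀ o : O, E o = (1 : K) ⊗ₜ[κ] o := by
    intro o
    change (Algebra.TensorProduct.congr (AlgEquiv.ofBijective (Algebra.ofId κ K) hbij) (AlgEquiv.refl (R := κ) (A₁ := O)))
      ((Algebra.TensorProduct.lid κ O).symm o) = _
    simp
  have hloc : IsLocalRing (K ⊗[κ] O) := E.isLocalRing
  have hM' : M = maximalIdeal (K ⊗[κ] O) := IsLocalRing.eq_maximalIdeal hM
  -- localization at the maximal ideal
  have hunits : M.primeCompl ≤ IsUnit.submonoid (K ⊗[κ] O) := by
    intro x hx
    by_contra hx'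
    exact hx (hM'.ge ((mem_maximalIdeal x).mpr hx'))
  have hlocbij : Function.Bijective (algebraMap (K ⊗[κ] O) (Localization.AtPrime M)) :=
    (IsLocalization.atUnits (K ⊗[κ] O) M.primeCompl (S := Localization.AtPrime M) hunits).bijective
  let F : K ⊗[κ] O ≃+* Localization.AtPrime M := RingEquiv.ofBijective _ hlocbij
  let A := Localization.AtPrime P
  have hmax : P.IsMaximal := hP ▸ isMaximal_pt a
  have hregK : IsRegularRing κ := inferInstance
  have hregM : IsRegularRing (MvPolynomial (Fin (n + 1)) κ) := inferInstance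
  have hreg : IsRegularLocalRing A := inferInstance
  have hmI : P.map (algebraMap (MvPolynomial (Fin (n + 1)) κ) A) = maximalIdeal A :=
    Localization.AtPrime.map_eq_maximalIdeal
  have hPpt : P = ptIdeal a := hP.trans (ptIdeal_eq_ker a).symm
  let t : Fin (n + 1) → A := fun i => algebraMap (MvPolynomial (Fin (n + 1)) κ) A (X i - C (a i))
  have ht : Ideal.span (Set.range t) = maximalIdeal A := by
    rw [← hmI]
    refine Eq.trans ?_ (congrArg (Ideal.map (algebraMap (MvPolynomial (Fin (n + 1)) κ) A)) hPpt.symm)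
    rw [ptIdeal, Ideal.map_span, ← Set.range_comp]
    rfl
  have hres : ∀ z : A, ∃ c : κ, z - algebraMap κ A c ∈ maximalIdeal A := by
    intro z
    obtain ⟨w, hw⟩ := (IsLocalization.AtPrime.equivQuotMaximalIdeal P A).surjective (Ideal.Quotient.mk _ z)
    obtain ⟨q, rfl⟩ := Ideal.Quotient.mk_surjective w
    refine ⟨eval a q, ?_⟩
    have h1 : Ideal.Quotient.mk P q = Ideal.Quotient.mk P (C (eval a q)) := by
      rw [Ideal.Quotient.eq, hP, RingHom.mem_ker]
      simp
    rw [h1, IsLocalization.AtPrime.equivQuotMaximalIdeal_apply_mk] at hw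
    exact Ideal.Quotient.eq.mp hw.symm
  have hdim : ringKrullDim A = (n + 1 : ℕ) := by
    rw [IsLocalization.AtPrime.ringKrullDim_eq_height P A,
      Groth.Agent.Ega4B.DimFT.height_eq_of_isMaximal_mvPolynomial_fin κ (n + 1) P]
    rfl
  let φ : K →+* A := (algebraMap κ A).comp (ι.symm : K →+* κ)
  have hφ : ∀ c : κ, φ (algebraMap κ K c) = algebraMap κ A c := by
    intro c
    change algebraMap κ A (ι.symm (ι c)) = _
    rw [RingEquiv.symm_apply_apply]
  let π' : A →+* Localization.AtPrime M := ((F : K ⊗[κ] O →+* _).comp (E : O →+* _)).comp π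
  have hπ' : Function.Surjective π' := (F.surjective.comp E.surjective).comp hπ
  let q : MvPolynomial (Fin (n + 1)) κ := trans a p
  have hev : MvPolynomial.eval₂Hom φ t (MvPolynomial.map (algebraMap κ K) q) =
      algebraMap (MvPolynomial (Fin (n + 1)) κ) A p := by
    rw [MvPolynomial.coe_eval₂Hom, MvPolynomial.eval₂_map]
    have h3 : φ.comp (algebraMap κ K) = algebraMap κ A := RingHom.ext hφ
    rw [h3]
    have h4 : (aeval t : MvPolynomial (Fin (n + 1)) κ →ₐ[κ] A).comp (trans a) =
        IsScalarTower.toAlgHom κ (MvPolynomial (Fin (n + 1)) κ) A := by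
      ext i
      simp only [AlgHom.comp_apply, trans_X, map_add, aeval_X, t, IsScalarTower.coe_toAlgHom', algHom_C,
        map_sub]
      rw [IsScalarTower.algebraMap_apply κ (MvPolynomial (Fin (n + 1)) κ) A]
      change _ - algebraMap (MvPolynomial (Fin (n + 1)) κ) A (C (a i)) + algebraMap (MvPolynomial (Fin (n + 1)) κ) A (C (a i)) = _
      rw [sub_add_cancel]
    exact congr($h4 p)
  refine isOrdQuadSing (K := K) φ (fun z => ?_) t ht hdim π' hπ' (fun c => ?_)
    (MvPolynomial.map (algebraMap κ K) q) ?_ ?_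
  · obtain ⟨c, hc⟩ := hres z
    exact ⟨algebraMap κ K c, by rw [hφ]; exact hc⟩
  · obtain ⟨c, rfl⟩ := hbij.2 c
    change F (E (π (φ (algebraMap κ K c)))) = _
    rw [hφ, hπψ, hE]
    change algebraMap (K ⊗[κ] O) (Localization.AtPrime M) _ = _
    rw [IsScalarTower.algebraMap_apply K (K ⊗[κ] O) (Localization.AtPrime M)]
    congr 1
    have h5 : ψ c = c • (1 : O) := (Algebra.algebraMap_eq_smul_one c)
    rw [h5, ← TensorProduct.smul_tmul, ← Algebra.algebraMap_eq_smul_one]
    rfl
  · rw [hev, ← hk]
    ext z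
    rw [RingHom.mem_ker, RingHom.mem_ker]
    change F (E (π z)) = 0 ↔ _
    rw [map_eq_zero_iff F F.injective, map_eq_zero_iff E E.injective]
  · refine ordQuadSeries_of_det _ ?_ (fun i => ?_) ?_
    · rw [eval_zero_map, eval_zero_trans, h0, map_zero]
    · rw [pderiv_map, eval_zero_map, pderiv_trans, eval_zero_trans, h1, map_zero]
    · have h6 : (Matrix.of fun i j => eval 0 (pderiv i (pderiv j (MvPolynomial.map (algebraMap κ K) q)))) =
          (algebraMap κ K).mapMatrix (Matrix.of fun i j => eval a (pderiv i (pderiv j p))) := by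
        ext i j
        rw [Matrix.of_apply, RingHom.mapMatrix_apply, Matrix.map_apply, Matrix.of_apply, pderiv_map, pderiv_map,
          eval_zero_map, pderiv_trans, pderiv_trans, eval_zero_trans]
      rw [h6, ← RingHom.map_det]
      exact (map_ne_zero_iff _ hbij.1).mpr h2

end alg

end Groth.Agent.Vancyc.H578.OrdQuad
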