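import Groth.Prelude.Def_VanCyc
import Groth.Agent.Vancyc.H578.Count
import Groth.Agent.Vancyc.H578.OrdQuad
import Groth.Agent.Vancyc.H517.Family
import Groth.Agent.Vancyc.H543.SmLoc

/-!
# Nondegenerate critical points in the family `g = t` over a trait (input of S3994 / S3995)

`k` algebraically closed, `g` a polynomial in `n + 1` variables, `R` a local domain (a discrete valuation ring in the
application), `φ : k[T] → R` with `k → κ(R)` surjective, `f = fam φ g : 𝔸^(n+1) ×_{𝔸^1} Spec R ⟶ Spec R`.
`a` a critical point of `g` with invertible Hessian, `φ (T - g(a))` in the maximal ideal: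

* `isClosed_pt`, `isOrdQuadPt_fam`: the point of the special fibre over `a`;
* `flat_fam`, `locallyOfFiniteType_fam`;
* `exists_open`: an open neighbourhood with smooth generic fibre.
-/

set_option autoImplicit false

universe u

open CategoryTheory CategoryTheory.Limits AlgebraicGeometry MvPolynomial

namespace Groth.Agent.Vancyc.H578.MorsePt

open Groth.Agent.Vancyc.H578.MilnorAff Groth.Agent.Vancyc.H578.Count Groth.Agent.Vancyc.H517.Family
open Groth.Agent.Lefpen.H702.AffAlg

section defs

variable {k : Type u} [Field k] {m : ℕ} (g : MvPolynomial (Fin m) k) {R : Type u} [CommRing R]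
  (φ : Polynomial k →+* R)

/-- `𝔸^m ×_{𝔸^1} Spec R ⟶ Spec R` for `g : 𝔸^m ⟶ 𝔸^1` and `Spec R ⟶ 𝔸^1`. -/
noncomputable abbrev fam : pullback (toLine (k := k) g) (Spec.map (CommRingCat.ofHom φ)) ⟶ Spec (CommRingCat.of R) :=
  pullback.snd _ _

/-- the projection to `𝔸^m` -/
noncomputable abbrev famA : pullback (toLine (k := k) g) (Spec.map (CommRingCat.ofHom φ)) ⟶
    Spec (CommRingCat.of (MvPolynomial (Fin m) k)) :=
  pullback.fst _ _

/-- the ring map `k[T] → k[x]`, `T ↦ g` -/
noncomputable abbrev ψ (g : MvPolynomial (Fin m) k) : Polynomial k →+* MvPolynomial (Fin m) k :=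
  (Polynomial.aeval g : Polynomial k →ₐ[k] MvPolynomial (Fin m) k).toRingHom

theorem ψ_C (c : k) : ψ g (Polynomial.C c) = C c := by simp [ψ]

theorem ψ_X : ψ g Polynomial.X = g := by simp [ψ]

instance : LocallyOfFinitePresentation (toLine (k := k) g) := by
  refine (HasRingHomProperty.Spec_iff (P := @LocallyOfFinitePresentation)).mpr ?_
  have h1 : ((ψ g).comp Polynomial.C).FinitePresentation := by
    have h2 : (ψ g).comp Polynomial.C = (C : k →+* MvPolynomial (Fin m) k) := RingHom.ext fun c => ψ_C g c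
    rw [h2]
    change (algebraMap k (MvPolynomial (Fin m) k)).FinitePresentation
    rw [RingHom.finitePresentation_algebraMap]
    infer_instance
  refine RingHom.FinitePresentation.of_comp_finiteType _ h1 ?_
  rw [← Polynomial.algebraMap_eq, RingHom.finiteType_algebraMap]
  infer_instance

instance : LocallyOfFinitePresentation (fam g φ) := inferInstance

/-- Base change of the family. -/
theorem isPullback_bc {A : Type u} [CommRing A] (θ : R →+* A) :
    IsPullback (pullback.fst (fam g φ) (Spec.map (CommRingCat.ofHom θ)) ≫ famA g φ)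
      (pullback.snd (fam g φ) (Spec.map (CommRingCat.ofHom θ))) (toLine (k := k) g)
      (Spec.map (CommRingCat.ofHom (θ.comp φ))) := by
  rw [CommRingCat.ofHom_comp, Spec.map_comp]
  exact (IsPullback.of_hasPullback _ _).paste_horiz (IsPullback.of_hasPullback _ _)

/-- The base change is a hypersurface in affine space. -/
noncomputable def eps {A : Type u} [CommRing A] (θ : R →+* A) :
    pullback (fam g φ) (Spec.map (CommRingCat.ofHom θ)) ≅
      Spec (CommRingCat.of (MvPolynomial (Fin m) A ⧸ Ideal.span {fp (θ.comp φ) g})) :=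
  (isPullback_bc g φ θ).isoIsPullback _ _ (isPullback_fam (θ.comp φ) g (ψ g) (ψ_C g) (ψ_X g))

theorem eps_fst {A : Type u} [CommRing A] (θ : R →+* A) :
    (eps g φ θ).hom ≫ Spec.map (CommRingCat.ofHom (inrHom (θ.comp φ) g)) =
      pullback.fst (fam g φ) (Spec.map (CommRingCat.ofHom θ)) ≫ famA g φ :=
  IsPullback.isoIsPullback_hom_fst _ _ _ _

theorem eps_snd {A : Type u} [CommRing A] (θ : R →+* A) :
    (eps g φ θ).hom ≫ Spec.map (CommRingCat.ofHom (algebraMap A (MvPolynomial (Fin m) A ⧸ Ideal.span {fp (θ.comp φ) g}))) =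
      pullback.snd (fam g φ) (Spec.map (CommRingCat.ofHom θ)) :=
  IsPullback.isoIsPullback_hom_snd _ _ _ _

/-- The family is flat if `g` is not constant. -/
theorem flat_toLine [IsAlgClosed k] (hg : ∀ c, g ≠ C c) : Flat (toLine (k := k) g) := by
  have hinj : Function.Injective (ψ g) := by
    rw [injective_iff_map_eq_zero]
    intro p hp
    by_contra hp0
    have hker : RingHom.ker (ψ g) ≠ ⊥ := fun h => hp0 (by
      have : p ∈ RingHom.ker (ψ g) := hp
      rwa [h] at this)
    have hprime : (RingHom.ker (ψ g)).IsPrime := RingHom.ker_isPrime _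
    obtain ⟨q, hq⟩ := (IsPrincipalIdealRing.principal (RingHom.ker (ψ g)))
    have hq' : RingHom.ker (ψ g) = Ideal.span {q} := hq
    have hq0 : q ≠ 0 := by
      rintro rfl
      apply hker
      rw [hq']; simp
    have hqp : Prime q := by
      rw [← Ideal.span_singleton_prime hq0, ← hq']; exact hprime
    have hdeg := IsAlgClosed.degree_eq_one_of_irreducible k hqp.irreducible
    have h1 : ψ g q = 0 := by
      have : q ∈ RingHom.ker (ψ g) := by rw [hq']; exact Ideal.mem_span_singleton_self q
      exact this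
    rw [Polynomial.eq_X_add_C_of_degree_eq_one hdeg, map_add, map_mul, ψ_C, ψ_X, ψ_C] at h1
    have hl : q.leadingCoeff ≠ 0 := Polynomial.leadingCoeff_ne_zero.mpr hq0
    refine hg (-(q.coeff 0) / q.leadingCoeff) ?_
    have h2 : C q.leadingCoeff * g = C (-(q.coeff 0)) := by
      rw [C_neg]; exact eq_neg_of_add_eq_zero_left h1
    have h3 : g = C (q.leadingCoeff⁻¹) * (C q.leadingCoeff * g) := by
      rw [← mul_assoc, ← C_mul, inv_mul_cancel₀ hl, C_1, one_mul]
    rw [h3, h2, ← C_mul]
    congr 1
    field_simp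
  rw [Flat.SpecMap_iff]
  change (ψ g).Flat
  algebraize [ψ g]
  have : Module.IsTorsionFree (Polynomial k) (MvPolynomial (Fin m) k) := by
    have : FaithfulSMul (Polynomial k) (MvPolynomial (Fin m) k) :=
      (faithfulSMul_iff_algebraMap_injective _ _).mpr hinj
    infer_instance
  exact IsDedekindDomain.flat_iff_torsion_eq_bot.mpr (Submodule.isTorsionFree_iff_torsion_eq_bot.mp this)

theorem flat_fam [IsAlgClosed k] (hg : ∀ c, g ≠ C c) : Flat (fam g φ) := by
  have := flat_toLine g hg
  infer_instance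

end defs

section det

variable {k : Type u} [Field k] {m : ℕ} (g : MvPolynomial (Fin m) k)

/-- Isolatedness of nondegenerate critical points. -/
theorem exists_isolating (a : Fin m → k) (ha : a ∈ crit g) (hdet : (hess g a).det ≠ 0) :
    ∃ s : MvPolynomial (Fin m) k, eval a s ≠ 0 ∧ ∀ l, s * (X l - C (a l)) ∈ jac g := by
  classical
  choose h hh using fun i => exists_hadamard a (pderiv i g)
  let H : Matrix (Fin m) (Fin m) (MvPolynomial (Fin m) k) := Matrix.of fun i l => h i l
  have hHe : ∀ i l, eval a (h i l) = eval a (pderiv l (pderiv i g)) := by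
    intro i l
    rw [hh i, map_add, map_add, eval_pderiv_sum, pderiv_C, map_zero, zero_add]
  have hdetH : eval a H.det = (hess g a).det := by
    rw [RingHom.map_det, ← Matrix.det_transpose]
    congr 1
    ext i l
    simp only [H, hess, Matrix.transpose_apply, RingHom.mapMatrix_apply, Matrix.map_apply, Matrix.of_apply]
    rw [hHe]
  refine ⟨H.det, by rw [hdetH]; exact hdet, fun l => ?_⟩
  have h1 : ∀ i, pderiv i g = ∑ j, H i j * (X j - C (a j)) := by
    intro i
    have := hh i
    rw [ha i, C_0, zero_add] at this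
    exact this
  have h2 : H.det * (X l - C (a l)) = ∑ i, H.adjugate l i * pderiv i g := by
    have h3 : H.adjugate.mulVec (H.mulVec fun j => X j - C (a j)) =
        H.det • fun j => (X j - C (a j) : MvPolynomial (Fin m) k) := by
      rw [Matrix.mulVec_mulVec, Matrix.adjugate_mul, Matrix.smul_mulVec, Matrix.one_mulVec]
    have h4 := congrFun h3 l
    rw [Pi.smul_apply, smul_eq_mul] at h4
    rw [← h4, Matrix.mulVec, dotProduct]
    refine Finset.sum_congr rfl fun i _ => ?_
    rw [h1 i]
    rfl
  rw [h2]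
  exact Ideal.sum_mem _ fun i _ => Ideal.mul_mem_left _ _ (Ideal.subset_span ⟨i, rfl⟩)

/-- a polynomial with a nondegenerate critical point in at least one variable is not constant -/
theorem ne_C_of_det (hm : m ≠ 0) (a : Fin m → k) (hdet : (hess g a).det ≠ 0) (c : k) : g ≠ C c := by
  rintro rfl
  apply hdet
  have : hess (C c) a = 0 := by
    ext i j
    simp [hess]
  rw [this]
  have : Nonempty (Fin m) := ⟨⟨0, Nat.pos_of_ne_zero hm⟩⟩
  exact Matrix.det_zero

end det

section smooth

variable {k : Type u} [Field k] {m : ℕ} (g : MvPolynomial (Fin m) k) {R : Type u} [CommRing R]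
  (φ : Polynomial k →+* R)

theorem pderiv_fp {A : Type u} [CommRing A] (θ : Polynomial k →+* A) (i : Fin m) :
    pderiv i (fp θ g) = MvPolynomial.map (θ.comp Polynomial.C) (pderiv i g) := by
  rw [fp, map_sub, pderiv_C, sub_zero, pderiv_map]

theorem smoothLocus_congr {X Y : Scheme.{u}} {f₁ f₂ : X ⟶ Y} (h : f₁ = f₂) [LocallyOfFinitePresentation f₁]
    [LocallyOfFinitePresentation f₂] : f₁.smoothLocus = f₂.smoothLocus := by
  subst h; rfl

theorem mem_smoothLocus {K : Type u} [Field K] (θ : R →+* K) (a : Fin m → k) (s : MvPolynomial (Fin m) k)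
    (hs : ∀ l, s * (X l - C (a l)) ∈ jac g)
    (hθ : θ (φ (Polynomial.X - Polynomial.C (eval a g))) ≠ 0)
    (z : ↥(pullback (fam g φ) (Spec.map (CommRingCat.ofHom θ))))
    (hz : s ∉ ((pullback.fst (fam g φ) (Spec.map (CommRingCat.ofHom θ)) ≫ famA g φ).base z).asIdeal) :
    z ∈ (pullback.snd (fam g φ) (Spec.map (CommRingCat.ofHom θ))).smoothLocus := by
  let B := MvPolynomial (Fin m) K ⧸ Ideal.span {fp (θ.comp φ) g}
  let y : PrimeSpectrum B := (eps g φ θ).hom.base z
  have hy : ((pullback.fst (fam g φ) (Spec.map (CommRingCat.ofHom θ)) ≫ famA g φ).base z).asIdeal =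
      y.asIdeal.comap (inrHom (θ.comp φ) g) := by
    rw [← eps_fst]
    rfl
  rw [hy] at hz
  have hprime : (y.asIdeal.comap (inrHom (θ.comp φ) g)).IsPrime := Ideal.IsPrime.comap _
  have hnot : ∃ i, pderiv i g ∉ y.asIdeal.comap (inrHom (θ.comp φ) g) := by
    by_contra hcon
    simp only [not_exists, not_not] at hcon
    have hjac : jac g ≤ y.asIdeal.comap (inrHom (θ.comp φ) g) := by
      rw [jac, Ideal.span_le]
      rintro _ ⟨i, rfl⟩
      exact hcon i
    have hX : ptIdeal a ≤ y.asIdeal.comap (inrHom (θ.comp φ) g) := by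
      rw [ptIdeal, Ideal.span_le]
      rintro _ ⟨l, rfl⟩
      exact (hprime.mem_or_mem (hjac (hs l))).resolve_left hz
    have hgc : inrHom (θ.comp φ) g (g - C (eval a g)) ∈ y.asIdeal := hX (sub_C_mem a g)
    have hcomp := comp_eq (θ.comp φ) (ψ_C g) (ψ_X g)
    have h1 : inrHom (θ.comp φ) g (g - C (eval a g)) =
        algebraMap K B (θ (φ (Polynomial.X - Polynomial.C (eval a g)))) := by
      have := congrArg (fun t => t (Polynomial.X - Polynomial.C (eval a g))) hcomp
      simp only [RingHom.comp_apply] at this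
      rw [map_sub (ψ g), ψ_C, ψ_X] at this
      exact this.symm
    rw [h1] at hgc
    exact y.isPrime.ne_top (Ideal.eq_top_of_isUnit_mem _ hgc ((isUnit_iff_ne_zero.mpr hθ).map _))
  obtain ⟨i, hi⟩ := hnot
  have hlfp : LocallyOfFinitePresentation (Spec.map (CommRingCat.ofHom (algebraMap K B))) := by
    rw [LocallyOfFinitePresentation.SpecMap_iff]
    change (algebraMap K B).FinitePresentation
    rw [RingHom.finitePresentation_algebraMap]
    exact Algebra.FinitePresentation.quotient ⟨{fp (θ.comp φ) g}, by simp⟩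
  have hsm : Algebra.Smooth K (MvPolynomial (Fin m) K) := ⟨inferInstance, inferInstance⟩
  have h2 := Groth.Agent.Vancyc.H543.SmLoc.mem_smoothLocus (R := K) (P := MvPolynomial (Fin m) K)
    (fp (θ.comp φ) g) (pderiv i (fp (θ.comp φ) g)) (pderiv i) (by simp) y (by
      rw [pderiv_fp]
      exact hi)
  have h3 : z ∈ ((eps g φ θ).hom ≫ Spec.map (CommRingCat.ofHom (algebraMap K B))).smoothLocus := by
    rw [← Scheme.Hom.preimage_smoothLocus_eq]
    exact h2
  rwa [smoothLocus_congr (eps_snd g φ θ)] at h3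

/-- **A nondegenerate critical point has a neighbourhood with smooth generic fibre.** -/
theorem exists_open {K : Type u} [Field K] [Algebra R K] (a : Fin m → k) (ha : a ∈ crit g)
    (hdet : (hess g a).det ≠ 0) (hK : algebraMap R K (φ (Polynomial.X - Polynomial.C (eval a g))) ≠ 0) :
    ∃ V : (pullback (toLine (k := k) g) (Spec.map (CommRingCat.ofHom φ))).Opens,
      (∀ y, (famA g φ).base y = pt a → y ∈ V) ∧
      Smooth (pullback.snd (V.ι ≫ fam g φ) (VanCyc.toS R K)) := by
  obtain ⟨s, hsa, hs⟩ := exists_isolating g a ha hdet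
  let D : (Spec (CommRingCat.of (MvPolynomial (Fin m) k))).Opens := PrimeSpectrum.basicOpen s
  let V := famA g φ ⁻¹ᵁ D
  refine ⟨V, fun y hy => ?_, ?_⟩
  · change (famA g φ).base y ∈ D
    rw [hy]
    exact hsa
  · let t : Spec (CommRingCat.of K) ⟶ Spec (CommRingCat.of R) := VanCyc.toS R K
    let w : pullback (V.ι ≫ fam g φ) t ⟶ pullback (fam g φ) t :=
      pullback.lift (pullback.fst _ _ ≫ V.ι) (pullback.snd _ _) (by rw [Category.assoc]; exact pullback.condition)
    have hw1 : w ≫ pullback.fst (fam g φ) t = pullback.fst (V.ι ≫ fam g φ) t ≫ V.ι := pullback.lift_fst _ _ _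
    have hw2 : w ≫ pullback.snd (fam g φ) t = pullback.snd (V.ι ≫ fam g φ) t := pullback.lift_snd _ _ _
    have hpb : IsPullback w (pullback.fst (V.ι ≫ fam g φ) t) (pullback.fst (fam g φ) t) V.ι := by
      refine IsPullback.of_right ?_ hw1 (IsPullback.of_hasPullback (fam g φ) t).flip
      rw [hw2]
      exact (IsPullback.of_hasPullback (V.ι ≫ fam g φ) t).flip
    have hwo : IsOpenImmersion w := MorphismProperty.of_isPullback hpb.flip inferInstance
    have hlfp : LocallyOfFinitePresentation (pullback.snd (V.ι ≫ fam g φ) t) := by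
      rw [← hw2]; infer_instance
    rw [← Scheme.Hom.smoothLocus_eq_top_iff]
    rw [eq_top_iff]
    intro z _
    have h1 : w.base z ∈ (pullback.snd (fam g φ) t).smoothLocus := by
      refine mem_smoothLocus g φ (algebraMap R K) a s hs hK (w.base z) ?_
      have h2 : (pullback.fst (fam g φ) t ≫ famA g φ).base (w.base z) =
          (famA g φ).base (V.ι.base ((pullback.fst (V.ι ≫ fam g φ) t).base z)) := by
        change (w ≫ pullback.fst (fam g φ) t ≫ famA g φ).base z = _
        rw [← Category.assoc, hw1]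
        rfl
      have h3 : (famA g φ).base (V.ι.base ((pullback.fst (V.ι ≫ fam g φ) t).base z)) ∈ D :=
        ((pullback.fst (V.ι ≫ fam g φ) t).base z).2
      rw [h2]
      exact h3
    have h4 : z ∈ (w ≫ pullback.snd (fam g φ) t).smoothLocus := by
      rw [← Scheme.Hom.preimage_smoothLocus_eq]
      exact h1
    rwa [smoothLocus_congr hw2] at h4

end smooth

section point

variable {k : Type u} [Field k] [IsAlgClosed k] {n : ℕ} (g : MvPolynomial (Fin (n + 1)) k) {R : Type u} [CommRing R]
  [IsLocalRing R] (φ : Polynomial k →+* R)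

omit [IsAlgClosed k] in
/-- the special fibre is a closed subscheme of affine space -/
theorem isClosedImmersion_sp (hκ : Function.Surjective ((IsLocalRing.residue R).comp (φ.comp Polynomial.C))) :
    IsClosedImmersion (VanCyc.icl R (fam g φ) ≫ famA g φ) := by
  have h1 : IsClosedImmersion (Spec.map (CommRingCat.ofHom ((IsLocalRing.residue R).comp φ))) := by
    refine IsClosedImmersion.spec_of_surjective _ ?_
    intro z
    obtain ⟨c, hc⟩ := hκ z
    exact ⟨Polynomial.C c, hc⟩
  exact MorphismProperty.of_isPullback (isPullback_bc g φ (IsLocalRing.residue R)).flip h1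

omit [IsAlgClosed k] in
theorem isClosed_pt (hκ : Function.Surjective ((IsLocalRing.residue R).comp (φ.comp Polynomial.C)))
    (a : Fin (n + 1) → k) (x : ↥(VanCyc.spFib R (fam g φ)))
    (hx : (VanCyc.icl R (fam g φ) ≫ famA g φ).base x = pt a) : IsClosed ({x} : Set ↥(VanCyc.spFib R (fam g φ))) := by
  have h := isClosedImmersion_sp g φ hκ
  have hcl : IsClosed ({pt a} : Set (PrimeSpectrum (MvPolynomial (Fin (n + 1)) k))) := by
    rw [PrimeSpectrum.isClosed_singleton_iff_isMaximal]
    exact OrdQuad.isMaximal_pt a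
  have h1 : ({x} : Set ↥(VanCyc.spFib R (fam g φ))) = (VanCyc.icl R (fam g φ) ≫ famA g φ).base ⁻¹' {pt a} := by
    ext y
    simp only [Set.mem_singleton_iff, Set.mem_preimage]
    constructor
    · rintro rfl; exact hx
    · intro hy
      exact (VanCyc.icl R (fam g φ) ≫ famA g φ).isEmbedding.injective (hy.trans hx.symm)
  rw [h1]
  exact hcl.preimage (VanCyc.icl R (fam g φ) ≫ famA g φ).continuous

omit [IsAlgClosed k] in
/-- structure maps of local rings and morphisms to affine schemes -/
theorem resHom_eq {κ B : Type u} [Field κ] [CommRing B] (α : κ →+* B) {Y : Scheme.{u}}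
    (e : Y ⟶ Spec (CommRingCat.of B)) (h : Y ⟶ Spec (CommRingCat.of κ))
    (he : e ≫ Spec.map (CommRingCat.ofHom α) = h) (x : Y) (c : κ) :
    VanCyc.resHom h x c = (e.stalkMap x).hom (toSt B (e.base x) (α c)) := by
  subst he
  have h1 := Scheme.Hom.germ_stalkMap_apply e ⊤ x trivial ((Scheme.ΓSpecIso (CommRingCat.of B)).inv.hom (α c))
  refine Eq.trans ?_ h1.symm
  have h2 := ConcreteCategory.congr_hom (Scheme.ΓSpecIso_inv_naturality (CommRingCat.ofHom α)) c
  have h3 : ((e ≫ Spec.map (CommRingCat.ofHom α)).appTop).hom ((Scheme.ΓSpecIso (CommRingCat.of κ)).inv.hom c) =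
      (e.appTop).hom ((Scheme.ΓSpecIso (CommRingCat.of B)).inv.hom (α c)) := by
    rw [Scheme.Hom.comp_appTop]
    exact congrArg (e.appTop).hom h2.symm
  exact congrArg (Y.presheaf.germ ⊤ x trivial).hom h3

omit [IsAlgClosed k] in
theorem eval_map_comp {κ : Type u} [Field κ] (σ : k →+* κ) {m : ℕ} (a : Fin m → k) (q : MvPolynomial (Fin m) k) :
    eval (fun i => σ (a i)) (MvPolynomial.map σ q) = σ (eval a q) := by
  have h : (eval (fun i => σ (a i))).comp (MvPolynomial.map σ) = σ.comp (eval a) := by
    apply MvPolynomial.ringHom_ext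
    · intro c; simp
    · intro i; simp
  exact congr($h q)

/-- **A nondegenerate critical point is an ordinary quadratic point of the special fibre.** -/
theorem isOrdQuadPt_fam (hκ : Function.Surjective ((IsLocalRing.residue R).comp (φ.comp Polynomial.C)))
    (a : Fin (n + 1) → k) (ha : a ∈ crit g) (hdet : (hess g a).det ≠ 0)
    (hφ : φ (Polynomial.X - Polynomial.C (eval a g)) ∈ IsLocalRing.maximalIdeal R)
    (x : ↥(VanCyc.spFib R (fam g φ)))
    (hx : (VanCyc.icl R (fam g φ) ≫ famA g φ).base x = pt a) :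
    VanCyc.IsOrdQuadPt (VanCyc.resHom (VanCyc.spStr R (fam g φ)) x) n := by
  classical
  let κ := IsLocalRing.ResidueField R
  let Ψ : Polynomial k →+* κ := (IsLocalRing.residue R).comp φ
  let σ : k →+* κ := Ψ.comp Polynomial.C
  let p : MvPolynomial (Fin (n + 1)) κ := fp Ψ g
  let I : Ideal (MvPolynomial (Fin (n + 1)) κ) := Ideal.span {p}
  let B := MvPolynomial (Fin (n + 1)) κ ⧸ I
  have hσ : Function.Bijective σ := ⟨σ.injective, hκ⟩
  have hcl : IsAlgClosed κ := IsAlgClosed.of_ringEquiv k κ (RingEquiv.ofBijective σ hσ)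
  let e := eps g φ (IsLocalRing.residue R)
  let y : PrimeSpectrum B := e.hom.base x
  let a' : Fin (n + 1) → κ := fun i => σ (a i)
  have hy : y.asIdeal.comap (inrHom Ψ g) = RingHom.ker (eval a) := by
    have h1 := eps_fst g φ (IsLocalRing.residue R)
    have h2 : (Spec.map (CommRingCat.ofHom (inrHom Ψ g))).base y = pt a := by
      rw [← hx]
      change ((eps g φ (IsLocalRing.residue R)).hom ≫ Spec.map (CommRingCat.ofHom (inrHom Ψ g))).base x = _
      rw [h1]
    exact congrArg PrimeSpectrum.asIdeal h2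
  let P : Ideal (MvPolynomial (Fin (n + 1)) κ) := y.asIdeal.comap (Ideal.Quotient.mk I)
  have hPp : P.IsPrime := Ideal.IsPrime.comap _
  have hP : P = RingHom.ker (eval a') := by
    rw [← ptIdeal_eq_ker]
    refine (Ideal.IsMaximal.eq_of_le (isMaximal_ptIdeal a') hPp.ne_top ?_).symm
    rw [ptIdeal, Ideal.span_le]
    rintro _ ⟨l, rfl⟩
    have h1 : (X l - C (a l) : MvPolynomial (Fin (n + 1)) k) ∈ y.asIdeal.comap (inrHom Ψ g) := by
      rw [hy, RingHom.mem_ker]; simp
    have h2 : inrHom Ψ g (X l - C (a l)) = Ideal.Quotient.mk I (X l - C (a' l)) := by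
      change Ideal.Quotient.mk I (MvPolynomial.map (Ψ.comp Polynomial.C) (X l - C (a l))) = _
      rw [map_sub, map_X, map_C]
    change Ideal.Quotient.mk I (X l - C (a' l)) ∈ y.asIdeal
    rw [← h2]
    exact h1
  -- local rings
  let Sy := (Spec (CommRingCat.of B)).presheaf.stalk y
  let _ : Algebra B Sy := (toSt B y).toAlgebra
  have hSy : IsLocalization.AtPrime Sy y.asIdeal := isLocalization B y
  let A := Localization.AtPrime P
  have h1 : Algebra.algebraMapSubmonoid B P.primeCompl = y.asIdeal.primeCompl := by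
    ext z
    obtain ⟨z, rfl⟩ := Ideal.Quotient.mk_surjective z
    constructor
    · rintro ⟨w, hw, hzw⟩ hz
      have h2 : Ideal.Quotient.mk I w = Ideal.Quotient.mk I z := hzw
      refine hw ?_
      change Ideal.Quotient.mk I w ∈ y.asIdeal
      rw [h2]; exact hz
    · intro hz
      exact ⟨z, fun h => hz h, rfl⟩
  have h2 : IsLocalization y.asIdeal.primeCompl
      (A ⧸ I.map (algebraMap (MvPolynomial (Fin (n + 1)) κ) A)) := by
    rw [← h1]; infer_instance
  let e1 := IsLocalization.algEquiv y.asIdeal.primeCompl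
    (A ⧸ I.map (algebraMap (MvPolynomial (Fin (n + 1)) κ) A)) Sy
  let u : Sy →+* (VanCyc.spFib R (fam g φ)).presheaf.stalk x := (e.hom.stalkMap x).hom
  have hu : Function.Bijective u := ConcreteCategory.bijective_of_isIso (e.hom.stalkMap x)
  let π : A →+* (VanCyc.spFib R (fam g φ)).presheaf.stalk x :=
    (u.comp (e1 : (A ⧸ I.map (algebraMap (MvPolynomial (Fin (n + 1)) κ) A)) →+* Sy)).comp (Ideal.Quotient.mk _)
  have hπ : Function.Surjective π := (hu.2.comp e1.surjective).comp Ideal.Quotient.mk_surjective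
  refine OrdQuad.isOrdQuadPt _ a' p P hP π hπ (fun c => ?_) ?_ ?_ (fun i => ?_) ?_
  · have h3 := resHom_eq (algebraMap κ B) e.hom (VanCyc.spStr R (fam g φ)) (eps_snd g φ _) x c
    rw [h3]
    change u (e1 (Ideal.Quotient.mk _ (algebraMap κ A c))) = u (toSt B y (algebraMap κ B c))
    congr 1
    have h4 : Ideal.Quotient.mk (I.map (algebraMap (MvPolynomial (Fin (n + 1)) κ) A)) (algebraMap κ A c) =
        algebraMap B (A ⧸ I.map (algebraMap (MvPolynomial (Fin (n + 1)) κ) A)) (algebraMap κ B c) := by
      rw [IsScalarTower.algebraMap_apply κ (MvPolynomial (Fin (n + 1)) κ) A]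
      rfl
    rw [h4, AlgEquiv.commutes]
    rfl
  · ext z
    rw [RingHom.mem_ker]
    change u (e1 (Ideal.Quotient.mk _ z)) = 0 ↔ _
    rw [map_eq_zero_iff u hu.1, map_eq_zero_iff e1 e1.injective, Ideal.Quotient.eq_zero_iff_mem, Ideal.map_span,
      Set.image_singleton]
  · have h3 : Ψ (Polynomial.X - Polynomial.C (eval a g)) = 0 := (IsLocalRing.residue_eq_zero_iff _).mpr hφ
    rw [map_sub, sub_eq_zero] at h3
    change eval a' (MvPolynomial.map σ g - C (Ψ Polynomial.X)) = 0
    rw [map_sub, eval_C, eval_map_comp, h3, sub_eq_zero]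
    rfl
  · rw [pderiv_fp]
    exact (eval_map_comp σ a _).trans (by rw [ha i, map_zero])
  · have h6 : (Matrix.of fun i j => eval a' (pderiv i (pderiv j p))) = σ.mapMatrix (hess g a) := by
      ext i j
      rw [Matrix.of_apply, RingHom.mapMatrix_apply, Matrix.map_apply, hess, Matrix.of_apply, pderiv_fp, pderiv_map]
      exact eval_map_comp σ a _
    rw [h6, ← RingHom.map_det]
    exact (map_ne_zero σ).mpr hdet

omit [IsAlgClosed k] in
/-- Every point of `g = c` is a point of the special fibre. -/
theorem exists_pt (a : Fin (n + 1) → k) (hφ : φ (Polynomial.X - Polynomial.C (eval a g)) ∈ IsLocalRing.maximalIdeal R) :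
    ∃ x : ↥(VanCyc.spFib R (fam g φ)), (VanCyc.icl R (fam g φ) ≫ famA g φ).base x = pt a := by
  let κ := IsLocalRing.ResidueField R
  let Ψ : Polynomial k →+* κ := (IsLocalRing.residue R).comp φ
  have hpb := isPullback_bc g φ (IsLocalRing.residue R)
  let z : PrimeSpectrum κ := ⊥
  have hmem : Polynomial.X - Polynomial.C (eval a g) ∈ RingHom.ker Ψ := (IsLocalRing.residue_eq_zero_iff _).mpr hφ
  have hmax : (Ideal.span {Polynomial.X - Polynomial.C (eval a g)} : Ideal (Polynomial k)).IsMaximal := by
    apply PrincipalIdealRing.isMaximal_of_irreducible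
    exact Polynomial.irreducible_X_sub_C _
  have h1 : RingHom.ker Ψ = Ideal.span {Polynomial.X - Polynomial.C (eval a g)} := by
    refine (hmax.eq_of_le (RingHom.ker_ne_top Ψ) ?_).symm
    rw [Ideal.span_singleton_le_iff_mem]
    exact hmem
  have h2 : Ideal.comap (ψ g) (RingHom.ker (eval a)) = Ideal.span {Polynomial.X - Polynomial.C (eval a g)} := by
    refine (hmax.eq_of_le ?_ ?_).symm
    · have hker : (RingHom.ker (eval a)).IsPrime := RingHom.ker_isPrime _
      exact (Ideal.IsPrime.comap (ψ g) (K := RingHom.ker (eval a))).ne_top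
    · rw [Ideal.span_singleton_le_iff_mem, Ideal.mem_comap, map_sub, ψ_C, ψ_X, RingHom.mem_ker]
      simp
  have h3 : (toLine (k := k) g).base (pt a) = (Spec.map (CommRingCat.ofHom Ψ)).base z := by
    apply PrimeSpectrum.ext
    exact h2.trans h1.symm
  obtain ⟨x, hx1, -⟩ := Scheme.Pullback.exists_preimage_pullback (f := toLine (k := k) g)
    (g := Spec.map (CommRingCat.ofHom Ψ)) (pt a) z h3
  refine ⟨hpb.isoPullback.inv.base x, ?_⟩
  rw [← hx1]
  change (hpb.isoPullback.inv ≫ (VanCyc.icl R (fam g φ) ≫ famA g φ)).base x = _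
  rw [hpb.isoPullback_inv_fst]

omit [IsAlgClosed k] in
theorem pt_unique (hκ : Function.Surjective ((IsLocalRing.residue R).comp (φ.comp Polynomial.C)))
    (x y : ↥(VanCyc.spFib R (fam g φ)))
    (h : (VanCyc.icl R (fam g φ) ≫ famA g φ).base x = (VanCyc.icl R (fam g φ) ≫ famA g φ).base y) : x = y := by
  have := isClosedImmersion_sp g φ hκ
  exact (VanCyc.icl R (fam g φ) ≫ famA g φ).isEmbedding.injective h

/-- **The hypotheses of S3994 / S3995 at a nondegenerate critical point.** -/
theorem morse (hκ : Function.Surjective ((IsLocalRing.residue R).comp (φ.comp Polynomial.C)))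
    {K : Type u} [Field K] [Algebra R K]
    (a : Fin (n + 1) → k) (ha : a ∈ crit g) (hdet : (hess g a).det ≠ 0)
    (hφ : φ (Polynomial.X - Polynomial.C (eval a g)) ∈ IsLocalRing.maximalIdeal R)
    (hK : algebraMap R K (φ (Polynomial.X - Polynomial.C (eval a g))) ≠ 0)
    (x : ↥(VanCyc.spFib R (fam g φ)))
    (hx : (VanCyc.icl R (fam g φ) ≫ famA g φ).base x = pt a) :
    Flat (fam g φ) ∧ LocallyOfFiniteType (fam g φ) ∧
    IsClosed ({x} : Set ↥(VanCyc.spFib R (fam g φ))) ∧
    VanCyc.IsOrdQuadPt (VanCyc.resHom (VanCyc.spStr R (fam g φ)) x) n ∧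
    ∃ V : (pullback (toLine (k := k) g) (Spec.map (CommRingCat.ofHom φ))).Opens,
      (VanCyc.icl R (fam g φ)).base x ∈ V ∧ Smooth (pullback.snd (V.ι ≫ fam g φ) (VanCyc.toS R K)) := by
  refine ⟨flat_fam g φ (ne_C_of_det g (Nat.succ_ne_zero n) a hdet), inferInstance, isClosed_pt g φ hκ a x hx,
    isOrdQuadPt_fam g φ hκ a ha hdet hφ x hx, ?_⟩
  obtain ⟨V, hV, hs⟩ := exists_open (K := K) g φ a ha hdet hK
  exact ⟨V, hV _ hx, hs⟩

end point

end Groth.Agent.Vancyc.H578.MorsePt
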