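import Groth.Prelude.Def_QuadSing
import Mathlib.Algebra.MvPolynomial.PDeriv
import Mathlib.LinearAlgebra.Matrix.NonsingularInverse

/-!
# Translation of polynomials and the quadratic part of a Taylor expansion

* `trans a g = g(x + a)`, `pderiv_trans`, `eval_zero_trans`;
* `polarMatrix_quadPart`: the polar matrix of the quadratic part of a polynomial (as a power series) is its Hessian at `0`;
* `ordQuadSeries_of_det`: no constant or linear terms and invertible Hessian ⟹ `OrdQuadSeries`.
-/

set_option autoImplicit false

universe u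

open MvPolynomial

namespace Groth.Agent.Vancyc.H578.Trans

section trans

variable {k : Type*} [CommRing k] {N : ℕ}

/-- `g(x + a)` -/
noncomputable def trans (a : Fin N → k) : MvPolynomial (Fin N) k →ₐ[k] MvPolynomial (Fin N) k :=
  aeval fun j => X j + C (a j)

theorem trans_X (a : Fin N → k) (j : Fin N) : trans a (X j) = X j + C (a j) := aeval_X _ _

theorem pderiv_trans (a : Fin N → k) (g : MvPolynomial (Fin N) k) (i : Fin N) :
    pderiv i (trans a g) = trans a (pderiv i g) := by
  classical
  induction g using MvPolynomial.induction_on with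
  | C c => simp [trans]
  | add p q hp hq => simp only [map_add, hp, hq]
  | mul_X p n hp =>
    rw [map_mul, pderiv_mul, hp, trans_X, pderiv_mul, map_add, map_add, map_mul, map_mul, pderiv_C, add_zero,
      pderiv_X, trans_X]
    congr 1
    by_cases h : n = i
    · subst h; simp
    · rw [Pi.single_eq_of_ne h, map_zero]

theorem eval_zero_trans (a : Fin N → k) (g : MvPolynomial (Fin N) k) : eval 0 (trans a g) = eval a g := by
  have h : (aeval (0 : Fin N → k) : MvPolynomial (Fin N) k →ₐ[k] k).comp (trans a) = aeval a := by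
    ext j
    simp [trans_X]
  exact congr($h g)

end trans

section quad

variable {k : Type u} [Field k] {N : ℕ}

theorem coeff_single (p : MvPolynomial (Fin N) k) (i : Fin N) :
    coeff (Finsupp.single i 1) p = eval 0 (pderiv i p) := by
  rw [eval_zero, constantCoeff_eq, coeff_pderiv]
  simp

theorem coeff_pair (p : MvPolynomial (Fin N) k) {i j : Fin N} (hij : i ≠ j) :
    coeff (Finsupp.single i 1 + Finsupp.single j 1) p = eval 0 (pderiv i (pderiv j p)) := by
  rw [eval_zero, constantCoeff_eq, coeff_pderiv, coeff_pderiv]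
  simp [hij]

theorem coeff_diag (p : MvPolynomial (Fin N) k) (i : Fin N) :
    2 * coeff (Finsupp.single i 2) p = eval 0 (pderiv i (pderiv i p)) := by
  rw [eval_zero, constantCoeff_eq, coeff_pderiv, coeff_pderiv, zero_add, ← Finsupp.single_add]
  simp
  ring

theorem pderiv_comm (p : MvPolynomial (Fin N) k) (i j : Fin N) : pderiv i (pderiv j p) = pderiv j (pderiv i p) := by
  ext s
  rw [coeff_pderiv, coeff_pderiv, coeff_pderiv, coeff_pderiv, add_right_comm]
  by_cases h : i = j
  · subst h; rfl
  · simp only [Finsupp.coe_add, Pi.add_apply, Finsupp.single_apply, h, Ne.symm h, if_false, add_zero]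
    ring

/-- The Hessian at the origin. -/
theorem polarMatrix_quadPart (p : MvPolynomial (Fin N) k) :
    VanCyc.polarMatrix (VanCyc.quadPart (p : MvPowerSeries (Fin N) k)) =
      Matrix.of fun i j => eval 0 (pderiv i (pderiv j p)) := by
  ext i j
  rw [VanCyc.polarMatrix, Matrix.of_apply]
  by_cases hij : i = j
  · subst hij
    rw [if_pos rfl, VanCyc.quadPart, if_pos rfl, MvPolynomial.coeff_coe, coeff_diag]
  · rw [if_neg hij]
    by_cases hlt : i < j
    · rw [if_pos hlt, VanCyc.quadPart, if_neg hij, if_pos hlt, MvPolynomial.coeff_coe, coeff_pair p hij]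
    · have hlt' : j < i := lt_of_le_of_ne (not_lt.mp hlt) (Ne.symm hij)
      rw [if_neg hlt, VanCyc.quadPart, if_neg (Ne.symm hij), if_pos hlt', MvPolynomial.coeff_coe,
        coeff_pair p (Ne.symm hij), pderiv_comm]

theorem ordQuadSeries_of_det (p : MvPolynomial (Fin N) k) (h0 : eval 0 p = 0) (h1 : ∀ i, eval 0 (pderiv i p) = 0)
    (h2 : (Matrix.of fun i j => eval 0 (pderiv i (pderiv j p))).det ≠ 0) :
    VanCyc.OrdQuadSeries (p : MvPowerSeries (Fin N) k) := by
  refine ⟨⟨?_, fun i => ?_⟩, fun v _ hv => ?_⟩
  · rw [← MvPowerSeries.coeff_zero_eq_constantCoeff_apply, MvPolynomial.coeff_coe, ← h0, eval_zero,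
      constantCoeff_eq]
  · rw [MvPolynomial.coeff_coe, coeff_single, h1]
  · rw [polarMatrix_quadPart] at hv
    exact Matrix.eq_zero_of_mulVec_eq_zero h2 hv

end quad

end Groth.Agent.Vancyc.H578.Trans
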